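import Groth.Agent.FibBase.FpMaps
import Mathlib.CategoryTheory.Comma.Over.Pullback

/-!
# Representable categories over a base and representable 1-morphisms
-/

set_option backward.isDefEq.respectTransparency false
set_option backward.isDefEq.respectTransparency.types false

universe v₃ u₃ v₂ u₂ v u

open CategoryTheory CategoryTheory.Functor CategoryTheory.Limits

namespace Groth.Agent.FibBase

variable {C : Type u} [Category.{v} C]

section Equiv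

variable {𝒳 𝒴 𝒮 : BasedCategory.{v, max u v} C}

lemma rep_of_equiv (F : 𝒳 ⥤ᵇ 𝒴) (hF : FibCat.IsEquivOver F) (h : FibCat.IsRepresentable 𝒴) :
    FibCat.IsRepresentable 𝒳 := by
  obtain ⟨U, E, hE⟩ := h
  exact ⟨U, BasedFunctor.comp F E, isEquivOver_comp hF hE⟩

lemma rep_of_equiv' (F : 𝒳 ⥤ᵇ 𝒴) (hF : FibCat.IsEquivOver F) (h : FibCat.IsRepresentable 𝒳) :
    FibCat.IsRepresentable 𝒴 := by
  obtain ⟨G, h₁, h₂⟩ := hF
  exact rep_of_equiv G ⟨F, h₂, h₁⟩ h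

/-- Isomorphic functors give equivalent fibre products. -/
lemma rep_fp_congr {F F' : 𝒳 ⥤ᵇ 𝒮} (i : F ≅ F') (G : 𝒴 ⥤ᵇ 𝒮) (h : FibCat.IsRepresentable (FibCat.fp F G)) :
    FibCat.IsRepresentable (FibCat.fp F' G) := by
  have : (BasedFunctor.id 𝒮).toFunctor.Full := inferInstanceAs (𝟭 _).Full
  have : (BasedFunctor.id 𝒮).toFunctor.Faithful := inferInstanceAs (𝟭 _).Faithful
  exact rep_of_equiv' (fpMap (F := F') (G := G) (F' := F) (G' := G) (a := BasedFunctor.id 𝒳)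
    (b := BasedFunctor.id 𝒴) (c := BasedFunctor.id 𝒮) i.symm (Iso.refl _))
    (fpMap_isEquivOver _ _ isEquivOver_id isEquivOver_id) h

/-- A representable 1-morphism has representable base change to every representable category. -/
lemma rep_fp {P : BasedCategory.{v, max u v} C} (hP : FibCat.IsRepresentable P) (K : P ⥤ᵇ 𝒴) (f : 𝒳 ⥤ᵇ 𝒴)
    (hf : FibCat.IsRepresentable1 f) : FibCat.IsRepresentable (FibCat.fp K f) := by
  have : (BasedFunctor.id 𝒴).toFunctor.Full := inferInstanceAs (𝟭 _).Full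
  have : (BasedFunctor.id 𝒴).toFunctor.Faithful := inferInstanceAs (𝟭 _).Faithful
  obtain ⟨V, R, E, h₁, h₂⟩ := hP
  exact rep_of_equiv' (fpMap (F := K) (G := f) (F' := BasedFunctor.comp E K) (G' := f) (a := E)
    (b := BasedFunctor.id 𝒳) (c := BasedFunctor.id 𝒴) (Iso.refl _) (Iso.refl _))
    (fpMap_isEquivOver _ _ ⟨R, h₂, h₁⟩ isEquivOver_id) (hf V _)

theorem rep1_iff_of_square {𝒳' 𝒴' : BasedCategory.{v, max u v} C} {f : 𝒳 ⥤ᵇ 𝒴} {f' : 𝒳' ⥤ᵇ 𝒴'}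
    {a : 𝒳' ⥤ᵇ 𝒳} {b : 𝒴' ⥤ᵇ 𝒴} (ha : FibCat.IsEquivOver a) (hb : FibCat.IsEquivOver b)
    (e : BasedFunctor.comp f' b ≅ BasedFunctor.comp a f) :
    FibCat.IsRepresentable1 f ↔ FibCat.IsRepresentable1 f' := by
  have := full_of_isEquivOver hb
  have := faithful_of_isEquivOver hb
  have key : ∀ (U : C) (G : FibCat.overCat U ⥤ᵇ 𝒴'),
      FibCat.IsRepresentable (FibCat.fp G f') ↔ FibCat.IsRepresentable (FibCat.fp (BasedFunctor.comp G b) f) := by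
    intro U G
    have h := fpMap_isEquivOver (F := BasedFunctor.comp G b) (G := f) (F' := G) (G' := f')
      (a := BasedFunctor.id _) (b := a) (c := b) (Iso.refl _) e isEquivOver_id ha
    exact ⟨rep_of_equiv' _ h, rep_of_equiv _ h⟩
  refine ⟨fun h U G => (key U G).2 (h U _), fun h U G => ?_⟩
  obtain ⟨b', -, ⟨i⟩⟩ := hb
  exact rep_fp_congr (whiskerLeftIso G i) f ((key U (BasedFunctor.comp G b')).1 (h U _))

theorem rep1_comp {𝒵 : BasedCategory.{v, max u v} C} {f : 𝒳 ⥤ᵇ 𝒴} {g : 𝒴 ⥤ᵇ 𝒵}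
    (hf : FibCat.IsRepresentable1 f) (hg : FibCat.IsRepresentable1 g) :
    FibCat.IsRepresentable1 (BasedFunctor.comp f g) := fun U G =>
  rep_of_equiv' (pasteHor G f g) (pasteHor_isEquivOver G f g) (rep_fp (hg U G) _ f hf)

theorem rep1_fpFst {𝒵 : BasedCategory.{v, max u v} C} {f : 𝒳 ⥤ᵇ 𝒴} (g : 𝒵 ⥤ᵇ 𝒴)
    (hf : FibCat.IsRepresentable1 f) : FibCat.IsRepresentable1 (FibCat.fpFst g f) := fun U G =>
  rep_of_equiv (pasteVert G g f) (pasteVert_isEquivOver G g f) (hf U _)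

end Equiv

section Diag

variable {𝒜 ℬ 𝒴 : BasedCategory.{v₂, u₂} C} {𝒵 : BasedCategory.{v₃, u₃} C} (F₁ : 𝒜 ⥤ᵇ 𝒴) (F₂ : ℬ ⥤ᵇ 𝒴) (g : 𝒴 ⥤ᵇ 𝒵)

/-- The map `A ×_Z B ⟶ Y ×_Z Y`. -/
def pairMap : FibCat.fp (BasedFunctor.comp F₁ g) (BasedFunctor.comp F₂ g) ⥤ᵇ FibCat.fp g g :=
  FibCat.fpLift (BasedFunctor.comp (FibCat.fpFst _ _) F₁) (BasedFunctor.comp (FibCat.fpSnd _ _) F₂)
    (FibCat.fpIso (BasedFunctor.comp F₁ g) (BasedFunctor.comp F₂ g))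

/-- `A ×_Y B ⟶ A ×_Z B`. -/
def weaken : FibCat.fp F₁ F₂ ⥤ᵇ FibCat.fp (BasedFunctor.comp F₁ g) (BasedFunctor.comp F₂ g) :=
  FibCat.fpLift (FibCat.fpFst F₁ F₂) (FibCat.fpSnd F₁ F₂) (whiskerRightIso (FibCat.fpIso F₁ F₂) g)

def diagIso : BasedFunctor.comp (weaken F₁ F₂ g) (pairMap F₁ F₂ g) ≅
    BasedFunctor.comp (BasedFunctor.comp (FibCat.fpSnd F₁ F₂) F₂) (FibCat.diag g) :=
  BasedNatIso.mkNatIso
    (NatIso.ofComponents
      (fun x => fpIsoMk (x := ((BasedFunctor.comp (weaken F₁ F₂ g) (pairMap F₁ F₂ g)).obj x))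
        (y := ((BasedFunctor.comp (BasedFunctor.comp (FibCat.fpSnd F₁ F₂) F₂) (FibCat.diag g)).obj x))
        x.obj.iso (Iso.refl _) (by
          show g.map x.obj.iso.hom ≫ 𝟙 _ = g.map x.obj.iso.hom ≫ g.map (𝟙 _)
          simp))
      (fun {x y} φ => by
        refine ObjectProperty.hom_ext _ (CategoricalPullback.hom_ext φ.hom.w ?_)
        show F₂.map φ.hom.snd ≫ 𝟙 _ = 𝟙 _ ≫ F₂.map φ.hom.snd
        simp))
    (fun x => fp_isHomLift (F := g) (G := g) (𝟙 (𝒜.p.obj x.obj.fst)) _ (h := x.property))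

/-- `A ×_Y B ⟶ (A ×_Z B) ×_{Y ×_Z Y} Y`. -/
def diagComparison : FibCat.fp F₁ F₂ ⥤ᵇ FibCat.fp (pairMap F₁ F₂ g) (FibCat.diag g) :=
  FibCat.fpLift (weaken F₁ F₂ g) (BasedFunctor.comp (FibCat.fpSnd F₁ F₂) F₂) (diagIso F₁ F₂ g)

theorem diagComparison_isEquivOver : FibCat.IsEquivOver (diagComparison F₁ F₂ g) := by
  refine isEquivOver_of_exists_iso _ ⟨fun {x y} t => ?_⟩ ⟨fun {x y} t t' h => ?_⟩ fun η => ?_
  · have w₁ : F₁.map t.hom.fst.hom.fst ≫ y.obj.iso.hom = x.obj.iso.hom ≫ t.hom.snd :=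
      congrArg (fun s => s.hom.fst) t.hom.w
    have w₂ : F₂.map t.hom.fst.hom.snd ≫ 𝟙 _ = 𝟙 _ ≫ t.hom.snd :=
      congrArg (fun s => s.hom.snd) t.hom.w
    rw [Category.id_comp, Category.comp_id] at w₂
    rw [← w₂] at w₁
    exact ⟨ObjectProperty.homMk ⟨t.hom.fst.hom.fst, t.hom.fst.hom.snd, w₁⟩,
      ObjectProperty.hom_ext _ (CategoricalPullback.hom_ext
        (ObjectProperty.hom_ext _ (CategoricalPullback.hom_ext rfl rfl)) w₂)⟩
  · exact ObjectProperty.hom_ext _ (CategoricalPullback.hom_ext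
      (congrArg (fun s => s.hom.fst.hom.fst) h) (congrArg (fun s => s.hom.fst.hom.snd) h))
  · obtain ⟨⟨w, y, i⟩, hη⟩ := η
    let S := 𝒜.p.obj w.obj.fst
    let Pi := (pairMap F₁ F₂ g).toFunctor.obj w
    let i₁ : F₁.obj w.obj.fst ≅ y := (FibCat.fpFst g g).toFunctor.mapIso i
    let i₂ : F₂.obj w.obj.snd ≅ y := (FibCat.fpSnd g g).toFunctor.mapIso i
    have l₁ : 𝒴.p.IsHomLift (𝟙 S) i₁.hom :=
      haveI : (FibCat.fp g g).p.IsHomLift (𝟙 S) i.hom := hη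
      (FibCat.fpFst g g).preserves_isHomLift (𝟙 S) i.hom
    have l₂ : 𝒴.p.IsHomLift (𝟙 S) i₂.hom :=
      haveI : (FibCat.fp g g).p.IsHomLift (𝟙 S) i.hom := hη
      (FibCat.fpSnd g g).preserves_isHomLift (𝟙 S) i.hom
    have l₂' := IsHomLift.lift_id_inv 𝒴.p S i₂
    have wi : g.map i₁.hom ≫ 𝟙 _ = w.obj.iso.hom ≫ g.map i₂.hom := i.hom.hom.w
    rw [Category.comp_id] at wi
    let x : (FibCat.fp F₁ F₂).obj := ⟨⟨w.obj.fst, w.obj.snd, i₁ ≪≫ i₂.symm⟩, by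
      show 𝒴.p.IsHomLift (𝟙 S) (i₁.hom ≫ i₂.inv)
      infer_instance⟩
    let e₀ : (weaken F₁ F₂ g).obj x ≅ w := fpIsoMk (Iso.refl _) (Iso.refl _) (by
      show g.map (F₁.map (𝟙 w.obj.fst)) ≫ w.obj.iso.hom =
        g.map (i₁.hom ≫ i₂.inv) ≫ g.map (F₂.map (𝟙 w.obj.snd))
      simp only [CategoryTheory.Functor.map_id, Category.id_comp, Category.comp_id, Functor.map_comp]
      rw [wi, Category.assoc, ← g.toFunctor.map_comp, Iso.hom_inv_id, g.toFunctor.map_id]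
      exact (Category.comp_id _).symm)
    let η : (FibCat.fp (pairMap F₁ F₂ g) (FibCat.diag g)).obj := ⟨⟨w, y, i⟩, hη⟩
    let e : (diagComparison F₁ F₂ g).obj x ≅ η :=
      (FibCat.fpProp (pairMap F₁ F₂ g) (FibCat.diag g)).isoMk (CategoricalPullback.mkIso e₀ i₂ ?_)
    refine ⟨x, e, ?_⟩
    rotate_left
    · refine ObjectProperty.hom_ext _ (CategoricalPullback.hom_ext ?_ ?_)
      · show F₁.map (𝟙 w.obj.fst) ≫ i₁.hom = (i₁.hom ≫ i₂.inv) ≫ i₂.hom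
        simp
      · show F₂.map (𝟙 w.obj.snd) ≫ i₂.hom = 𝟙 _ ≫ i₂.hom
        simp
    · have h₀ : (FibCat.fp (BasedFunctor.comp F₁ g) (BasedFunctor.comp F₂ g)).p.IsHomLift (𝟙 S) e₀.hom :=
        fp_isHomLift (F := BasedFunctor.comp F₁ g) (G := BasedFunctor.comp F₂ g) (𝟙 S) _
          (h := IsHomLift.id (p := 𝒜.p) (a := w.obj.fst) (rfl : 𝒜.p.obj w.obj.fst = S))
      exact fp_isHomLift (F := pairMap F₁ F₂ g) (G := FibCat.diag g) (𝟙 S) _ (h := h₀)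

end Diag

/-- The third-party criterion: `f` is representable if `g ∘ f` and the diagonal of `g` are. -/
theorem rep1_of_comp {𝒳 𝒴 𝒵 : BasedCategory.{v, max u v} C} {f : 𝒳 ⥤ᵇ 𝒴} {g : 𝒴 ⥤ᵇ 𝒵}
    (hgf : FibCat.IsRepresentable1 (BasedFunctor.comp f g)) (hΔ : FibCat.IsRepresentable1 (FibCat.diag g)) :
    FibCat.IsRepresentable1 f := fun U G =>
  rep_of_equiv (diagComparison G f g) (diagComparison_isEquivOver G f g)
    (rep_fp (hgf U _) _ _ hΔ)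

end Groth.Agent.FibBase
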