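import Groth.Agent.FibBase.Fp

/-!
# Comparison functors between 2-fibre products over a base
-/

set_option backward.isDefEq.respectTransparency false
set_option backward.isDefEq.respectTransparency.types false

universe v₄ u₄ v₃ u₃ v₂ u₂ v u

open CategoryTheory CategoryTheory.Functor CategoryTheory.Limits

namespace Groth.Agent.FibBase

variable {C : Type u} [Category.{v} C]

section

variable {𝒳 : BasedCategory.{v₂, u₂} C} {𝒴 : BasedCategory.{v₃, u₃} C} {𝒮 : BasedCategory.{v₄, u₄} C}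
  {F : 𝒳 ⥤ᵇ 𝒮} {G : 𝒴 ⥤ᵇ 𝒮}

lemma fp_iso_lift (x : (FibCat.fp F G).obj) : 𝒮.p.IsHomLift (𝟙 (𝒳.p.obj x.obj.fst)) x.obj.iso.hom :=
  x.property

/-- A based isomorphism of the fibre product from isomorphisms of the components. -/
def fpIsoMk {x y : (FibCat.fp F G).obj} (a : x.obj.fst ≅ y.obj.fst) (b : x.obj.snd ≅ y.obj.snd)
    (w : F.map a.hom ≫ y.obj.iso.hom = x.obj.iso.hom ≫ G.map b.hom) : x ≅ y :=
  (FibCat.fpProp F G).isoMk (CategoricalPullback.mkIso a b w)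

lemma fpIsoMk_lift {x y : (FibCat.fp F G).obj} (a : x.obj.fst ≅ y.obj.fst) (b : x.obj.snd ≅ y.obj.snd)
    (w : F.map a.hom ≫ y.obj.iso.hom = x.obj.iso.hom ≫ G.map b.hom) {S : C}
    [h : 𝒳.p.IsHomLift (𝟙 S) a.hom] : (FibCat.fp F G).p.IsHomLift (𝟙 S) (fpIsoMk a b w).hom :=
  fp_isHomLift (𝟙 S) _ (h := h)

end

section Map

variable {𝒳 𝒳' : BasedCategory.{v₂, u₂} C} {𝒴 𝒴' : BasedCategory.{v₃, u₃} C} {𝒮 𝒮' : BasedCategory.{v₄, u₄} C}
  {F : 𝒳 ⥤ᵇ 𝒮} {G : 𝒴 ⥤ᵇ 𝒮}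
  {F' : 𝒳' ⥤ᵇ 𝒮'} {G' : 𝒴' ⥤ᵇ 𝒮'} {a : 𝒳' ⥤ᵇ 𝒳} {b : 𝒴' ⥤ᵇ 𝒴} {c : 𝒮' ⥤ᵇ 𝒮}
  (α : BasedFunctor.comp a F ≅ BasedFunctor.comp F' c) (β : BasedFunctor.comp G' c ≅ BasedFunctor.comp b G)

/-- The functor of fibre products induced by a map of cospans. -/
def fpMap : FibCat.fp F' G' ⥤ᵇ FibCat.fp F G :=
  FibCat.fpLift (BasedFunctor.comp (FibCat.fpFst F' G') a) (BasedFunctor.comp (FibCat.fpSnd F' G') b)
    (whiskerLeftIso (FibCat.fpFst F' G') α ≪≫ whiskerRightIso (FibCat.fpIso F' G') c ≪≫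
      whiskerLeftIso (FibCat.fpSnd F' G') β)

lemma fpMap_iso (x : (FibCat.fp F' G').obj) : ((fpMap α β).obj x).obj.iso.hom =
    (isoApp α x.obj.fst).hom ≫ c.map x.obj.iso.hom ≫ (isoApp β x.obj.snd).hom := rfl

theorem fpMap_isEquivOver (ha : FibCat.IsEquivOver a) (hb : FibCat.IsEquivOver b)
    [c.toFunctor.Full] [c.toFunctor.Faithful] : FibCat.IsEquivOver (fpMap α β) := by
  have := full_of_isEquivOver ha
  have := faithful_of_isEquivOver ha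
  have := full_of_isEquivOver hb
  have := faithful_of_isEquivOver hb
  refine isEquivOver_of_exists_iso _ ⟨fun {x y} t => ?_⟩ ⟨fun {x y} t t' h => ?_⟩ fun η => ?_
  · obtain ⟨p, hp⟩ := a.toFunctor.map_surjective (X := x.obj.fst) (Y := y.obj.fst) t.hom.fst
    obtain ⟨q, hq⟩ := b.toFunctor.map_surjective (X := x.obj.snd) (Y := y.obj.snd) t.hom.snd
    refine ⟨ObjectProperty.homMk ⟨p, q, ?_⟩, ObjectProperty.hom_ext _ (CategoricalPullback.hom_ext hp hq)⟩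
    have w := t.hom.w
    rw [fpMap_iso, fpMap_iso, ← hp, ← hq] at w
    refine c.toFunctor.map_injective ?_
    rw [← cancel_epi (isoApp α x.obj.fst).hom, ← cancel_mono (isoApp β y.obj.snd).hom]
    simp only [Functor.map_comp, Category.assoc] at w ⊢
    have nα : F.map (a.map p) ≫ (isoApp α y.obj.fst).hom =
        (isoApp α x.obj.fst).hom ≫ c.map (F'.map p) := natural α p
    have nβ : c.map (G'.map q) ≫ (isoApp β y.obj.snd).hom =
        (isoApp β x.obj.snd).hom ≫ G.map (b.map q) := natural β q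
    rw [← reassoc_of% nα, nβ]
    exact w
  · exact ObjectProperty.hom_ext _ (CategoricalPullback.hom_ext
      (a.toFunctor.map_injective (congrArg (fun s => s.hom.fst) h))
      (b.toFunctor.map_injective (congrArg (fun s => s.hom.snd) h)))
  · obtain ⟨x', e, he⟩ := exists_iso_over_of_isEquivOver ha (S := 𝒳.p.obj η.obj.fst) η.obj.fst rfl
    obtain ⟨y', e', he'⟩ := exists_iso_over_of_isEquivOver hb (S := 𝒳.p.obj η.obj.fst) η.obj.snd (snd_proj η)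
    have hx : 𝒳'.p.obj x' = 𝒳.p.obj η.obj.fst :=
      (a.w_obj x').symm.trans (IsHomLift.domain_eq 𝒳.p (𝟙 (𝒳.p.obj η.obj.fst)) e.hom)
    have hy : 𝒴'.p.obj y' = 𝒳.p.obj η.obj.fst :=
      (b.w_obj y').symm.trans (IsHomLift.domain_eq 𝒴.p (𝟙 (𝒳.p.obj η.obj.fst)) e'.hom)
    let i : c.obj (F'.obj x') ≅ c.obj (G'.obj y') :=
      (isoApp α x').symm ≪≫ F.toFunctor.mapIso e ≪≫ η.obj.iso ≪≫ (G.toFunctor.mapIso e').symm ≪≫ (isoApp β y').symm
    have hi : 𝒮.p.IsHomLift (𝟙 (𝒳.p.obj η.obj.fst)) i.hom := by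
      have := isoApp_inv_lift α hx
      have := isoApp_inv_lift β hy
      have := fp_iso_lift η
      have : 𝒮.p.IsHomLift (𝟙 (𝒳.p.obj η.obj.fst)) (G.toFunctor.mapIso e').hom :=
        G.preserves_isHomLift _ e'.hom
      have := IsHomLift.lift_id_inv 𝒮.p (𝒳.p.obj η.obj.fst) (G.toFunctor.mapIso e')
      show 𝒮.p.IsHomLift (𝟙 (𝒳.p.obj η.obj.fst)) ((isoApp α x').inv ≫ F.map e.hom ≫ η.obj.iso.hom ≫
        (G.toFunctor.mapIso e').inv ≫ (isoApp β y').inv)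
      infer_instance
    refine ⟨⟨⟨x', y', c.toFunctor.preimageIso i⟩, ?_⟩, fpIsoMk e e' ?_, ?_⟩
    · show 𝒮'.p.IsHomLift (𝟙 (𝒳'.p.obj x')) (c.toFunctor.preimageIso i).hom
      rw [hx, ← c.isHomLift_iff, Functor.preimageIso_hom, Functor.map_preimage]
      exact hi
    · show F.map e.hom ≫ η.obj.iso.hom =
        ((isoApp α x').hom ≫ c.map (c.toFunctor.preimageIso i).hom ≫ (isoApp β y').hom) ≫ G.map e'.hom
      rw [Functor.preimageIso_hom, Functor.map_preimage]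
      simp only [i, Iso.trans_hom, Iso.symm_hom, Functor.mapIso_hom, Functor.mapIso_inv, Category.assoc,
        Iso.hom_inv_id_assoc, Iso.inv_hom_id_assoc]
      rw [← G.toFunctor.map_comp, Iso.inv_hom_id, G.toFunctor.map_id, Category.comp_id]
    · exact fp_isHomLift (𝟙 _) _ (h := he)

end Map

section Assoc

variable {𝒲 𝒳 𝒴 𝒵 : BasedCategory.{v₂, u₂} C} (H : 𝒲 ⥤ᵇ 𝒵) (f : 𝒳 ⥤ᵇ 𝒴) (g : 𝒴 ⥤ᵇ 𝒵)

/-- `(W ×_Z Y) ×_Y X ⟶ W ×_Z X`. -/
def pasteHor : FibCat.fp (FibCat.fpSnd H g) f ⥤ᵇ FibCat.fp H (BasedFunctor.comp f g) :=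
  FibCat.fpLift (BasedFunctor.comp (FibCat.fpFst (FibCat.fpSnd H g) f) (FibCat.fpFst H g))
    (FibCat.fpSnd (FibCat.fpSnd H g) f)
    (whiskerLeftIso (FibCat.fpFst (FibCat.fpSnd H g) f) (FibCat.fpIso H g) ≪≫
      whiskerRightIso (FibCat.fpIso (FibCat.fpSnd H g) f) g)

theorem pasteHor_isEquivOver : FibCat.IsEquivOver (pasteHor H f g) := by
  refine isEquivOver_of_exists_iso _ ⟨fun {x y} t => ?_⟩ ⟨fun {x y} t t' h => ?_⟩ fun η => ?_
  · let q : x.obj.fst.obj.snd ⟶ y.obj.fst.obj.snd := x.obj.iso.hom ≫ f.map t.hom.snd ≫ y.obj.iso.inv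
    have w : H.map t.hom.fst ≫ y.obj.fst.obj.iso.hom ≫ g.map y.obj.iso.hom =
        (x.obj.fst.obj.iso.hom ≫ g.map x.obj.iso.hom) ≫ g.map (f.map t.hom.snd) := t.hom.w
    have w' : H.map t.hom.fst ≫ y.obj.fst.obj.iso.hom = x.obj.fst.obj.iso.hom ≫ g.map q := by
      rw [← cancel_mono (g.map y.obj.iso.hom), Category.assoc, w]
      simp only [q, Category.assoc, ← g.toFunctor.map_comp, Iso.inv_hom_id, Category.comp_id]
    let s : x.obj.fst ⟶ y.obj.fst := ObjectProperty.homMk ⟨t.hom.fst, q, w'⟩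
    refine ⟨ObjectProperty.homMk ⟨s, t.hom.snd, ?_⟩, ObjectProperty.hom_ext _ (CategoricalPullback.hom_ext rfl rfl)⟩
    show q ≫ y.obj.iso.hom = x.obj.iso.hom ≫ f.map t.hom.snd
    simp [q]
  · have h₁ : t.hom.fst.hom.fst = t'.hom.fst.hom.fst := congrArg (fun s => s.hom.fst) h
    have h₂ : t.hom.snd = t'.hom.snd := congrArg (fun s => s.hom.snd) h
    refine ObjectProperty.hom_ext _ (CategoricalPullback.hom_ext
      (ObjectProperty.hom_ext _ (CategoricalPullback.hom_ext h₁ ?_)) h₂)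
    have w₁ : t.hom.fst.hom.snd ≫ y.obj.iso.hom = x.obj.iso.hom ≫ f.map t.hom.snd := t.hom.w
    have w₂ : t'.hom.fst.hom.snd ≫ y.obj.iso.hom = x.obj.iso.hom ≫ f.map t'.hom.snd := t'.hom.w
    rw [← cancel_mono y.obj.iso.hom, w₁, w₂, h₂]
  · have hη := fp_iso_lift η
    let w : (FibCat.fp H g).obj := ⟨⟨η.obj.fst, f.obj η.obj.snd, η.obj.iso⟩, hη⟩
    let x : (FibCat.fp (FibCat.fpSnd H g) f).obj := ⟨⟨w, η.obj.snd, Iso.refl _⟩,
      IsHomLift.id ((f.w_obj _).trans (snd_proj η))⟩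
    refine ⟨x, fpIsoMk (Iso.refl _) (Iso.refl _) ?_, fpIsoMk_lift _ _ _ (h := IsHomLift.id rfl)⟩
    show H.map (𝟙 η.obj.fst) ≫ η.obj.iso.hom = (η.obj.iso.hom ≫ g.map (𝟙 _)) ≫ g.map (f.map (𝟙 η.obj.snd))
    simp
    exact (Category.comp_id _).symm

end Assoc

section BaseChange

variable {𝒲 𝒳 𝒴 𝒵 : BasedCategory.{v₂, u₂} C} (G : 𝒲 ⥤ᵇ 𝒵) (g : 𝒵 ⥤ᵇ 𝒴) (f : 𝒳 ⥤ᵇ 𝒴)

/-- `W ×_Z (Z ×_Y X) ⟶ W ×_Y X`. -/
def pasteVert : FibCat.fp G (FibCat.fpFst g f) ⥤ᵇ FibCat.fp (BasedFunctor.comp G g) f :=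
  FibCat.fpLift (FibCat.fpFst G (FibCat.fpFst g f))
    (BasedFunctor.comp (FibCat.fpSnd G (FibCat.fpFst g f)) (FibCat.fpSnd g f))
    (whiskerRightIso (FibCat.fpIso G (FibCat.fpFst g f)) g ≪≫
      whiskerLeftIso (FibCat.fpSnd G (FibCat.fpFst g f)) (FibCat.fpIso g f))

theorem pasteVert_isEquivOver : FibCat.IsEquivOver (pasteVert G g f) := by
  refine isEquivOver_of_exists_iso _ ⟨fun {x y} t => ?_⟩ ⟨fun {x y} t t' h => ?_⟩ fun η => ?_
  · let q : x.obj.snd.obj.fst ⟶ y.obj.snd.obj.fst := x.obj.iso.inv ≫ G.map t.hom.fst ≫ y.obj.iso.hom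
    have w : g.map (G.map t.hom.fst) ≫ g.map y.obj.iso.hom ≫ y.obj.snd.obj.iso.hom =
        (g.map x.obj.iso.hom ≫ x.obj.snd.obj.iso.hom) ≫ f.map t.hom.snd := t.hom.w
    have w' : g.map q ≫ y.obj.snd.obj.iso.hom = x.obj.snd.obj.iso.hom ≫ f.map t.hom.snd := by
      rw [← cancel_epi (g.map x.obj.iso.hom)]
      simp only [Category.assoc] at w
      simp only [q, ← g.toFunctor.map_comp_assoc, Iso.hom_inv_id_assoc]
      simp only [g.toFunctor.map_comp, Category.assoc]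
      exact w
    let s : x.obj.snd ⟶ y.obj.snd := ObjectProperty.homMk ⟨q, t.hom.snd, w'⟩
    refine ⟨ObjectProperty.homMk ⟨t.hom.fst, s, ?_⟩, ObjectProperty.hom_ext _ (CategoricalPullback.hom_ext rfl rfl)⟩
    show G.map t.hom.fst ≫ y.obj.iso.hom = x.obj.iso.hom ≫ q
    simp [q]
  · have h₁ : t.hom.fst = t'.hom.fst := congrArg (fun s => s.hom.fst) h
    have h₂ : t.hom.snd.hom.snd = t'.hom.snd.hom.snd := congrArg (fun s => s.hom.snd) h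
    refine ObjectProperty.hom_ext _ (CategoricalPullback.hom_ext h₁
      (ObjectProperty.hom_ext _ (CategoricalPullback.hom_ext ?_ h₂)))
    have w₁ : G.map t.hom.fst ≫ y.obj.iso.hom = x.obj.iso.hom ≫ t.hom.snd.hom.fst := t.hom.w
    have w₂ : G.map t'.hom.fst ≫ y.obj.iso.hom = x.obj.iso.hom ≫ t'.hom.snd.hom.fst := t'.hom.w
    rw [← cancel_epi x.obj.iso.hom, ← w₁, ← w₂, h₁]
  · have hη := fp_iso_lift η
    let z : (FibCat.fp g f).obj := ⟨⟨G.obj η.obj.fst, η.obj.snd, η.obj.iso⟩,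
      isHomLift_id_congr (G.w_obj _).symm hη⟩
    let x : (FibCat.fp G (FibCat.fpFst g f)).obj := ⟨⟨η.obj.fst, z, Iso.refl _⟩, IsHomLift.id (G.w_obj _)⟩
    refine ⟨x, fpIsoMk (Iso.refl _) (Iso.refl _) ?_, fpIsoMk_lift _ _ _ (h := IsHomLift.id rfl)⟩
    show g.map (G.map (𝟙 η.obj.fst)) ≫ η.obj.iso.hom = (g.map (𝟙 _) ≫ η.obj.iso.hom) ≫ f.map (𝟙 η.obj.snd)
    simp

end BaseChange

end Groth.Agent.FibBase
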