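import Groth.Agent.FibBase.Fp

/-!
# Categories fibred in setoids; lifting criterion for a functor between categories fibred in groupoids
-/

set_option backward.isDefEq.respectTransparency false
set_option backward.isDefEq.respectTransparency.types false

universe v₄ u₄ v₃ u₃ v₂ u₂ v u

open CategoryTheory CategoryTheory.Functor CategoryTheory.Limits

namespace Groth.Agent.FibBase

section Plain

variable {C : Type u} [Category.{v} C] {X : Type u₂} [Category.{v₂} X] {p : X ⥤ C}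

theorem isFibSetoid_iff : FibCat.IsFibSetoid p ↔ FibCat.IsFibGrpd p ∧ p.Faithful := by
  refine ⟨fun ⟨h, ht⟩ => ⟨h, ⟨fun {a b} φ φ' hφ => ?_⟩⟩, fun ⟨h, hf⟩ => ⟨h, fun U a b => ⟨fun φ φ' => ?_⟩⟩⟩
  · have : p.IsHomLift (p.map φ) φ' := hφ ▸ IsHomLift.map p φ'
    have := h.isStronglyCartesian φ
    let τ := IsCartesian.map p (p.map φ) φ φ'
    let t : Fiber.mk (p := p) (a := a) rfl ⟶ Fiber.mk rfl := ⟨τ, inferInstanceAs (p.IsHomLift (𝟙 (p.obj a)) τ)⟩
    have hτ : τ = 𝟙 a := congrArg Subtype.val ((ht (p.obj a) _ _).elim t (𝟙 _))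
    rw [← IsCartesian.fac p (p.map φ) φ φ', show IsCartesian.map p (p.map φ) φ φ' = 𝟙 a from hτ, Category.id_comp]
  · exact Subtype.ext (hf.map_injective (by rw [map_eq_of_isHomLift_id φ.2, map_eq_of_isHomLift_id φ'.2]))

end Plain

section TwoFunctors

variable {C : Type u} [Category.{v} C] {X : Type u₂} [Category.{v₂} X] {Y : Type u₃} [Category.{v₃} Y]
  {G : X ⥤ Y} {q : Y ⥤ C}

/-- If `G ⋙ q` and `q` are fibred in groupoids, `G` is fibred in groupoids as soon as isomorphisms over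
identities lift. -/
theorem isFibGrpd_of_transport (hq : FibCat.IsFibGrpd q) (h : FibCat.IsFibGrpd (G ⋙ q))
    (ht : ∀ (y : X) (V : Y) (e : V ≅ G.obj y), q.IsHomLift (𝟙 (q.obj (G.obj y))) e.hom →
      ∃ (y' : X) (φ : y' ⟶ y), G.IsHomLift e.hom φ) :
    FibCat.IsFibGrpd G := by
  refine ⟨fun {x V} f => ?_, fun {y x} φ => ?_⟩
  · obtain ⟨y, φ, hφ⟩ := h.exists_lift (x := x) (q.map f)
    have hφ' : q.IsHomLift (q.map f) (G.map φ) :=
      IsHomLift.of_fac' q _ _ (IsHomLift.domain_eq (G ⋙ q) (q.map f) φ) rfl (IsHomLift.fac' (G ⋙ q) (q.map f) φ)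
    obtain ⟨e, he, he'⟩ := exists_iso_of_lifts (p := q) (hp := hq) (q.map f) (G.map φ) f
    obtain ⟨y', τ, hτ⟩ := ht y V e (isHomLift_id_congr (IsHomLift.domain_eq (G ⋙ q) (q.map f) φ).symm he)
    refine ⟨y', τ ≫ φ, ?_⟩
    simpa [he'] using IsHomLift.comp G e.hom (G.map φ) τ φ
  · refine { toIsHomLift := IsHomLift.map _ _, universal_property' := fun {z} g ψ _ => ?_ }
    have hψ := IsHomLift.eq_of_isHomLift G (g ≫ G.map φ) ψ
    have : (G ⋙ q).IsHomLift (q.map g ≫ (G ⋙ q).map φ) ψ := by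
      rw [Functor.comp_map, ← q.map_comp, hψ]; exact IsHomLift.map (G ⋙ q) ψ
    have := h.isStronglyCartesian φ
    obtain ⟨χ, ⟨hχ₁, hχ₂⟩, hχ₃⟩ :=
      IsStronglyCartesian.universal_property (G ⋙ q) ((G ⋙ q).map φ) φ (q.map g) _ rfl ψ
    refine ⟨χ, ⟨?_, hχ₂⟩, fun χ' ⟨h₁, h₂⟩ => hχ₃ χ' ⟨comp_isHomLift g χ', h₂⟩⟩
    have := hq.isStronglyCartesian (G.map φ)
    have hgχ : q.map g = q.map (G.map χ) := IsHomLift.eq_of_isHomLift (G ⋙ q) (q.map g) χ
    have : q.IsHomLift (q.map g) (G.map χ) := hgχ ▸ IsHomLift.map _ _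
    have : g = G.map χ := IsStronglyCartesian.ext q (q.map (G.map φ)) (G.map φ) (q.map g)
      (by rw [← G.map_comp, hχ₂]; exact hψ)
    exact this ▸ IsHomLift.map G χ

end TwoFunctors

section OverBase

variable {C : Type u} [Category.{v} C] {𝒳 : BasedCategory.{v₂, u₂} C} {𝒴 : BasedCategory.{v₃, u₃} C}
  {𝒮 : BasedCategory.{v₄, u₄} C}

lemma faithful_iff_of_isEquivOver {F : 𝒳 ⥤ᵇ 𝒴} (hF : FibCat.IsEquivOver F) :
    𝒳.p.Faithful ↔ 𝒴.p.Faithful := by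
  have := isEquivalence_of_isEquivOver hF
  constructor
  · intro h
    have : (F.toFunctor.asEquivalence.inverse ⋙ 𝒳.p).Faithful := inferInstance
    exact Faithful.of_iso
      ((isoWhiskerLeft F.toFunctor.asEquivalence.inverse (eqToIso F.w.symm)) ≪≫ (Functor.associator _ _ _).symm ≪≫
        isoWhiskerRight F.toFunctor.asEquivalence.counitIso 𝒴.p ≪≫ Functor.leftUnitor _)
  · intro h
    rw [← F.w]; infer_instance

theorem isFibSetoid_iff_of_isEquivOver {F : 𝒳 ⥤ᵇ 𝒴} (hF : FibCat.IsEquivOver F) :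
    FibCat.IsFibSetoid 𝒳.p ↔ FibCat.IsFibSetoid 𝒴.p := by
  rw [isFibSetoid_iff, isFibSetoid_iff, isFibGrpd_iff_of_isEquivOver hF, faithful_iff_of_isEquivOver hF]

lemma isFibSetoid_of_isFibSet {p : 𝒳.obj ⥤ C} (h : FibCat.IsFibSet p) : FibCat.IsFibSetoid p :=
  ⟨h.1, fun U a b => (h.2 U).subsingleton a b⟩

lemma fp_faithful_of_left {F : 𝒳 ⥤ᵇ 𝒮} [F.toFunctor.Faithful] {G : 𝒴 ⥤ᵇ 𝒮} [𝒴.p.Faithful] :
    (FibCat.fp F G).p.Faithful := by
  refine ⟨fun {x y} φ φ' h => ?_⟩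
  have h₁ := preservesHomLift_snd φ
  have h₂ := preservesHomLift_snd φ'
  have hb : 𝒳.p.map φ.hom.fst = 𝒳.p.map φ'.hom.fst := h
  have e₂ : φ.hom.snd = φ'.hom.snd := 𝒴.p.map_injective (by
    rw [IsHomLift.fac' 𝒴.p (𝒳.p.map φ.hom.fst) φ.hom.snd, IsHomLift.fac' 𝒴.p (𝒳.p.map φ'.hom.fst) φ'.hom.snd]
    simp only [hb])
  refine ObjectProperty.hom_ext _ (CategoricalPullback.hom_ext (F.toFunctor.map_injective ?_) e₂)
  rw [← cancel_mono y.obj.iso.hom, φ.hom.w, φ'.hom.w, e₂]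

lemma diag_faithful (F : 𝒳 ⥤ᵇ 𝒮) : (FibCat.diag F).toFunctor.Faithful :=
  ⟨fun h => congrArg (fun t => t.hom.fst) h⟩

end OverBase

end Groth.Agent.FibBase
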