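import Groth.Agent.FibBase.Repr
import Mathlib.CategoryTheory.Limits.Shapes.BinaryProducts
import Mathlib.CategoryTheory.Limits.Shapes.Pullback.IsPullback.Basic

/-!
# Fibre products of slices, products over the base, and the diagonal criterion
-/

set_option backward.isDefEq.respectTransparency false
set_option backward.isDefEq.respectTransparency.types false

universe v₂ u₂ v u

open CategoryTheory CategoryTheory.Functor CategoryTheory.Limits

namespace Groth.Agent.FibBase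

variable {C : Type u} [Category.{v} C]

lemma self_hom_eq {a b : C} {S : C} {φ : a ⟶ b} (h : (𝟭 C).IsHomLift (𝟙 S) φ) :
    φ = eqToHom ((IsHomLift.domain_eq (𝟭 C) (𝟙 S) φ).trans (IsHomLift.codomain_eq (𝟭 C) (𝟙 S) φ).symm) :=
  map_eq_of_isHomLift_id (p := 𝟭 C) h

/-- Any two functors over `C` to `C` are isomorphic over `C`. -/
def selfIso {𝒳 : BasedCategory.{v₂, u₂} C} (a b : 𝒳 ⥤ᵇ FibCat.selfOver C) : a ≅ b :=
  BasedNatIso.mkNatIso (eqToIso (a.w.trans b.w.symm : a.toFunctor ⋙ 𝟭 C = b.toFunctor ⋙ 𝟭 C))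
    (fun x => by
      refine isHomLift_id_of_map_eq (p := 𝟭 C) (a.w_obj x) (b.w_obj x) ?_
      simp)

section Over

variable {𝒳 : BasedCategory.{v₂, u₂} C} {Y : C}

lemma left_map (A : 𝒳 ⥤ᵇ FibCat.overCat Y) {a b : 𝒳.obj} (φ : a ⟶ b) :
    (A.map φ).left = eqToHom (A.w_obj a) ≫ 𝒳.p.map φ ≫ eqToHom (A.w_obj b).symm :=
  Functor.congr_hom A.w φ

/-- Functors over `C` into a slice are isomorphic if their structure maps agree. -/
def overIso (A B : 𝒳 ⥤ᵇ FibCat.overCat Y)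
    (h : ∀ x, eqToHom ((A.w_obj x).trans (B.w_obj x).symm) ≫ (B.obj x).hom = (A.obj x).hom) : A ≅ B :=
  BasedNatIso.mkNatIso
    (NatIso.ofComponents (fun x => Over.isoMk (eqToIso ((A.w_obj x).trans (B.w_obj x).symm)) (h x))
      (fun {x y} φ => by
        apply Over.OverMorphism.ext
        show (A.map φ).left ≫ eqToHom ((A.w_obj y).trans (B.w_obj y).symm) =
          eqToHom ((A.w_obj x).trans (B.w_obj x).symm) ≫ (B.map φ).left
        simp [left_map]))
    (fun x => isHomLift_id_of_map_eq (A.w_obj x) (B.w_obj x) rfl)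

/-- The based functor `C/X ⥤ C/Y` of a morphism. -/
abbrev mapB {X Y : C} (f : X ⟶ Y) : FibCat.overCat X ⥤ᵇ FibCat.overCat Y := ⟨Over.map f, Over.mapForget_eq f⟩

lemma obj_hom_eq {U : C} (G : FibCat.overCat U ⥤ᵇ FibCat.overCat Y) (x : Over U) :
    eqToHom (G.w_obj x).symm ≫ (G.obj x).hom =
      x.hom ≫ eqToHom (G.w_obj (Over.mk (𝟙 U))).symm ≫ (G.obj (Over.mk (𝟙 U))).hom := by
  let φ : x ⟶ Over.mk (𝟙 U) := Over.homMk x.hom
  have h := Over.w (G.map φ)
  rw [left_map G φ] at h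
  rw [← h]
  simp [φ]
  rfl

/-- A based functor between slices is induced by a morphism. -/
lemma exists_mapB {U : C} (G : FibCat.overCat U ⥤ᵇ FibCat.overCat Y) :
    ∃ h : U ⟶ Y, Nonempty (mapB h ≅ G) := by
  refine ⟨eqToHom (G.w_obj (Over.mk (𝟙 U))).symm ≫ (G.obj (Over.mk (𝟙 U))).hom, ⟨overIso _ _ fun x => ?_⟩⟩
  exact obj_hom_eq G x

/-- The cone functor `C/P ⟶ C/A ×_{C/Z} C/B`. -/
def sliceCone {P A B Z : C} (p : P ⟶ A) (q : P ⟶ B) (f : A ⟶ Z) (g : B ⟶ Z) (w : p ≫ f = q ≫ g) :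
    FibCat.overCat P ⥤ᵇ FibCat.fp (mapB f) (mapB g) :=
  FibCat.fpLift (mapB p) (mapB q) (overIso _ _ fun x => by
    show 𝟙 x.left ≫ (x.hom ≫ q) ≫ g = (x.hom ≫ p) ≫ f
    simp [w])

theorem sliceCone_isEquivOver {P A B Z : C} {p : P ⟶ A} {q : P ⟶ B} {f : A ⟶ Z} {g : B ⟶ Z}
    (sq : IsPullback p q f g) : FibCat.IsEquivOver (sliceCone p q f g sq.w) := by
  refine isEquivOver_of_exists_iso _ ⟨fun {x y} t => ?_⟩ ⟨fun {x y} t t' h => ?_⟩ fun η => ?_
  · have w : t.hom.fst.left ≫ 𝟙 y.left = 𝟙 x.left ≫ t.hom.snd.left := congrArg CommaMorphism.left t.hom.w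
    have w₁ : t.hom.fst.left ≫ y.hom ≫ p = x.hom ≫ p := Over.w t.hom.fst
    have w₂ : t.hom.snd.left ≫ y.hom ≫ q = x.hom ≫ q := Over.w t.hom.snd
    have e : t.hom.fst.left = t.hom.snd.left := (Category.comp_id _).symm.trans (w.trans (Category.id_comp _))
    refine ⟨Over.homMk (V := y) t.hom.fst.left (sq.hom_ext ((Category.assoc _ _ _).trans w₁) ?_), ?_⟩
    · exact (Category.assoc _ _ _).trans (e ▸ w₂)
    · exact ObjectProperty.hom_ext _ (CategoricalPullback.hom_ext (Over.OverMorphism.ext rfl)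
        (Over.OverMorphism.ext e))
  · have h₁ : t.left = t'.left := congrArg (fun s => s.hom.fst.left) h
    exact Over.OverMorphism.ext h₁
  · have hS : η.obj.snd.left = η.obj.fst.left := snd_proj η
    have hi : η.obj.iso.hom.left = eqToHom hS.symm := map_eq_of_isHomLift_id (p := Over.forget Z) η.property
    have wi : η.obj.iso.hom.left ≫ η.obj.snd.hom ≫ g = η.obj.fst.hom ≫ f := Over.w η.obj.iso.hom
    rw [hi] at wi
    let l := sq.lift η.obj.fst.hom (eqToHom hS.symm ≫ η.obj.snd.hom) (by simp [wi])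
    refine ⟨Over.mk l, fpIsoMk (Over.isoMk (Iso.refl _) ?_) (Over.isoMk (eqToIso hS.symm) ?_) ?_, ?_⟩
    · show 𝟙 _ ≫ η.obj.fst.hom = l ≫ p
      simp [l]
    · show eqToHom hS.symm ≫ η.obj.snd.hom = l ≫ q
      simp [l]
    · apply Over.OverMorphism.ext
      show 𝟙 η.obj.fst.left ≫ η.obj.iso.hom.left = 𝟙 _ ≫ eqToHom hS.symm
      simp [hi]
    · refine fp_isHomLift (F := mapB f) (G := mapB g) (𝟙 η.obj.fst.left) _ (h := ?_)
      refine isHomLift_id_of_map_eq (p := Over.forget A) ?_ ?_ ?_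
      · rfl
      · rfl
      · rfl

theorem rep1_mapB [HasPullbacks C] {X Y : C} (f : X ⟶ Y) : FibCat.IsRepresentable1 (mapB f) := by
  intro U G
  obtain ⟨h, ⟨i⟩⟩ := exists_mapB G
  exact rep_fp_congr i _ (rep_of_equiv' _ (sliceCone_isEquivOver (IsPullback.of_hasPullback h f)) ⟨_, _, isEquivOver_id⟩)

end Over

end Groth.Agent.FibBase
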