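import Groth.Agent.FibBase.Basic

/-!
# Cartesian morphisms and equivalences over a base; criteria for fibred in groupoids
-/

set_option backward.isDefEq.respectTransparency false
set_option backward.isDefEq.respectTransparency.types false

universe v₄ u₄ v₃ u₃ v₂ u₂ v u

open CategoryTheory CategoryTheory.Functor

namespace Groth.Agent.FibBase

section Plain

variable {C : Type u} [Category.{v} C] {X : Type u₂} [Category.{v₂} X] {p : X ⥤ C}

/-- Morphisms of a fibred category factor through a cartesian one by a vertical one. -/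
lemma exists_fac_cartesian [p.IsFibered] {a b : X} (φ : a ⟶ b) :
    ∃ (c : X) (ψ : c ⟶ b) (τ : a ⟶ c), p.IsStronglyCartesian (p.map φ) ψ ∧
      p.IsHomLift (𝟙 (p.obj a)) τ ∧ τ ≫ ψ = φ :=
  ⟨_, IsPreFibered.pullbackMap (p := p) rfl (p.map φ), IsCartesian.map p (p.map φ) _ φ,
    inferInstance, inferInstance, IsCartesian.fac _ _ _ _⟩

theorem isFibGrpd_iff : FibCat.IsFibGrpd p ↔ p.IsFibered ∧ ∀ U : C, IsGroupoid (p.Fiber U) := by
  refine ⟨fun h => ⟨isFibered_of_isFibGrpd h, fiber_isGroupoid h⟩, fun ⟨h, hg⟩ => ⟨?_, ?_⟩⟩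
  · intro x V f
    obtain ⟨y, φ, hφ⟩ := IsPreFibered.exists_isCartesian p (a := x) rfl f
    exact ⟨y, φ, inferInstance⟩
  · intro y x φ
    obtain ⟨c, ψ, τ, hψ, hτ, rfl⟩ := exists_fac_cartesian (p := p) φ
    have := hg (p.obj y)
    let t : Fiber.mk (p := p) (a := y) rfl ⟶ Fiber.mk (IsHomLift.codomain_eq p (𝟙 (p.obj y)) τ) := ⟨τ, hτ⟩
    have : IsIso τ := inferInstanceAs (IsIso (Fiber.fiberInclusion.map t))
    have h₁ : p.IsStronglyCartesian (𝟙 (p.obj y)) τ := inferInstance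
    simpa using IsStronglyCartesian.comp (p := p) (f := 𝟙 (p.obj y)) (g := p.map (τ ≫ ψ)) (φ := τ) (ψ := ψ)

end Plain

section OverBase

variable {C : Type u} [Category.{v} C] {𝒳 : BasedCategory.{v₂, u₂} C} {𝒴 : BasedCategory.{v₃, u₃} C}
  {F : 𝒳 ⥤ᵇ 𝒴}

/-- A fully faithful functor over the base reflects cartesian morphisms. -/
lemma isCartesian_of_map [F.toFunctor.Full] [F.toFunctor.Faithful] {R S : C} {f : R ⟶ S} {a b : 𝒳.obj}
    {φ : a ⟶ b} (h : 𝒴.p.IsCartesian f (F.map φ)) : 𝒳.p.IsCartesian f φ := by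
  have : 𝒳.p.IsHomLift f φ := F.isHomLift_map f φ
  refine ⟨fun {a'} φ' _ => ?_⟩
  obtain ⟨χ, ⟨hχ₁, hχ₂⟩, hχ₃⟩ := IsCartesian.universal_property (p := 𝒴.p) (f := f) (φ := F.map φ) (F.map φ')
  refine ⟨F.toFunctor.preimage χ, ⟨(F.isHomLift_iff _ _).1 (by simpa using hχ₁),
    F.toFunctor.map_injective (by simpa using hχ₂)⟩, fun y ⟨hy₁, hy₂⟩ => F.toFunctor.map_injective ?_⟩
  simpa using hχ₃ (F.map y) ⟨inferInstance, by rw [← F.toFunctor.map_comp, hy₂]⟩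

/-- A fully faithful functor over the base reflects strongly cartesian morphisms. -/
lemma isStronglyCartesian_of_map [F.toFunctor.Full] [F.toFunctor.Faithful] {R S : C} {f : R ⟶ S} {a b : 𝒳.obj}
    {φ : a ⟶ b} (h : 𝒴.p.IsStronglyCartesian f (F.map φ)) : 𝒳.p.IsStronglyCartesian f φ := by
  have : 𝒳.p.IsHomLift f φ := F.isHomLift_map f φ
  refine ⟨fun {a'} g φ' _ => ?_⟩
  obtain ⟨χ, ⟨hχ₁, hχ₂⟩, hχ₃⟩ :=
    IsStronglyCartesian.universal_property 𝒴.p f (F.map φ) g (g ≫ f) rfl (F.map φ')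
  refine ⟨F.toFunctor.preimage χ, ⟨(F.isHomLift_iff _ _).1 (by simpa using hχ₁),
    F.toFunctor.map_injective (by simpa using hχ₂)⟩, fun y ⟨hy₁, hy₂⟩ => F.toFunctor.map_injective ?_⟩
  simpa using hχ₃ (F.map y) ⟨inferInstance, by rw [← F.toFunctor.map_comp, hy₂]⟩

/-- An equivalence over the base preserves strongly cartesian morphisms. -/
lemma isStronglyCartesian_map (hF : FibCat.IsEquivOver F) {R S : C} {f : R ⟶ S} {a b : 𝒳.obj}
    {φ : a ⟶ b} [𝒳.p.IsStronglyCartesian f φ] : 𝒴.p.IsStronglyCartesian f (F.map φ) := by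
  have := full_of_isEquivOver hF
  have := faithful_of_isEquivOver hF
  refine ⟨fun {z} g ψ _ => ?_⟩
  obtain ⟨ξ, e, he⟩ := exists_iso_over_of_isEquivOver hF (S := 𝒴.p.obj z) z rfl
  have : 𝒳.p.IsHomLift (g ≫ f) (F.toFunctor.preimage (e.hom ≫ ψ)) :=
    (F.isHomLift_iff _ _).1 (by rw [F.toFunctor.map_preimage]; infer_instance)
  obtain ⟨χ, ⟨hχ₁, hχ₂⟩, hχ₃⟩ :=
    IsStronglyCartesian.universal_property 𝒳.p f φ g (g ≫ f) rfl (F.toFunctor.preimage (e.hom ≫ ψ))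
  have := IsHomLift.lift_id_inv 𝒴.p (𝒴.p.obj z) e
  refine ⟨e.inv ≫ F.map χ, ⟨inferInstance, ?_⟩, ?_⟩
  · simp [← F.toFunctor.map_comp, hχ₂]
  · rintro y ⟨hy₁, hy₂⟩
    rw [Iso.eq_inv_comp, ← hχ₃ (F.toFunctor.preimage (e.hom ≫ y))
      ⟨(F.isHomLift_iff _ _).1 (by rw [F.toFunctor.map_preimage]; infer_instance),
        F.toFunctor.map_injective (by simp [hy₂])⟩]
    simp

/-- An equivalence over the base preserves cartesian morphisms. -/
lemma isCartesian_map (hF : FibCat.IsEquivOver F) {R S : C} {f : R ⟶ S} {a b : 𝒳.obj}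
    {φ : a ⟶ b} [𝒳.p.IsCartesian f φ] : 𝒴.p.IsCartesian f (F.map φ) := by
  have := full_of_isEquivOver hF
  have := faithful_of_isEquivOver hF
  refine ⟨fun {z} ψ _ => ?_⟩
  obtain ⟨ξ, e, he⟩ := exists_iso_over_of_isEquivOver hF (S := R) z (IsHomLift.domain_eq 𝒴.p f ψ)
  have : 𝒳.p.IsHomLift f (F.toFunctor.preimage (e.hom ≫ ψ)) :=
    (F.isHomLift_iff _ _).1 (by rw [F.toFunctor.map_preimage]; infer_instance)
  obtain ⟨χ, ⟨hχ₁, hχ₂⟩, hχ₃⟩ :=
    IsCartesian.universal_property (p := 𝒳.p) (f := f) (φ := φ) (F.toFunctor.preimage (e.hom ≫ ψ))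
  have := IsHomLift.lift_id_inv 𝒴.p R e
  refine ⟨e.inv ≫ F.map χ, ⟨inferInstance, ?_⟩, ?_⟩
  · simp [← F.toFunctor.map_comp, hχ₂]
  · rintro y ⟨hy₁, hy₂⟩
    rw [Iso.eq_inv_comp, ← hχ₃ (F.toFunctor.preimage (e.hom ≫ y))
      ⟨(F.isHomLift_iff _ _).1 (by rw [F.toFunctor.map_preimage]; infer_instance),
        F.toFunctor.map_injective (by simp [hy₂])⟩]
    simp

theorem isFibered_iff_of_isEquivOver (hF : FibCat.IsEquivOver F) : 𝒳.p.IsFibered ↔ 𝒴.p.IsFibered := by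
  have := full_of_isEquivOver hF
  have := faithful_of_isEquivOver hF
  constructor
  · intro h
    refine IsFibered.of_exists_isStronglyCartesian fun η R f => ?_
    obtain ⟨ξ, e, he⟩ := exists_iso_over_of_isEquivOver hF (S := 𝒴.p.obj η) η rfl
    obtain ⟨c, φ, hφ⟩ := IsPreFibered.exists_isCartesian 𝒳.p (a := ξ)
      ((F.w_obj ξ).symm.trans (IsHomLift.domain_eq 𝒴.p (𝟙 (𝒴.p.obj η)) e.hom)) f
    have := isStronglyCartesian_map hF (f := f) (φ := φ)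
    exact ⟨F.obj c, F.map φ ≫ e.hom, by
      simpa using IsStronglyCartesian.comp (p := 𝒴.p) (f := f) (g := 𝟙 (𝒴.p.obj η)) (φ := F.map φ) (ψ := e.hom)⟩
  · intro h
    refine IsFibered.of_exists_isStronglyCartesian fun a R f => ?_
    obtain ⟨z, ψ, hψ⟩ := IsPreFibered.exists_isCartesian 𝒴.p (a := F.obj a) (F.w_obj a) f
    obtain ⟨c, e, he⟩ := exists_iso_over_of_isEquivOver hF (S := R) z (IsHomLift.domain_eq 𝒴.p f ψ)
    refine ⟨c, F.toFunctor.preimage (e.hom ≫ ψ), isStronglyCartesian_of_map (F := F) ?_⟩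
    rw [F.toFunctor.map_preimage]
    simpa using IsStronglyCartesian.comp (p := 𝒴.p) (f := 𝟙 R) (g := f) (φ := e.hom) (ψ := ψ)

theorem isFibGrpd_iff_of_isEquivOver (hF : FibCat.IsEquivOver F) :
    FibCat.IsFibGrpd 𝒳.p ↔ FibCat.IsFibGrpd 𝒴.p := by
  have := full_of_isEquivOver hF
  have := faithful_of_isEquivOver hF
  constructor
  · intro h
    refine isFibGrpd_iff.2 ⟨(isFibered_iff_of_isEquivOver hF).1 (isFibered_of_isFibGrpd h), fun U => ⟨fun {a b} φ => ?_⟩⟩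
    obtain ⟨ξ, e, he⟩ := exists_iso_over_of_isEquivOver hF (S := U) a.1 a.2
    obtain ⟨ξ', e', he'⟩ := exists_iso_over_of_isEquivOver hF (S := U) b.1 b.2
    have := IsHomLift.lift_id_inv 𝒴.p U e'
    have := φ.2
    have hχ : 𝒳.p.IsHomLift (𝟙 U) (F.toFunctor.preimage (e.hom ≫ φ.1 ≫ e'.inv)) :=
      (F.isHomLift_iff _ _).1 (by rw [F.toFunctor.map_preimage]; infer_instance)
    have := isIso_of_lift (p := 𝒳.p) (𝟙 U) (F.toFunctor.preimage (e.hom ≫ φ.1 ≫ e'.inv))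
    have hi : IsIso (e.hom ≫ φ.1 ≫ e'.inv) := by
      rw [← F.toFunctor.map_preimage (e.hom ≫ φ.1 ≫ e'.inv)]; infer_instance
    have : IsIso φ.1 := by
      have := IsIso.of_isIso_comp_left e.hom (φ.1 ≫ e'.inv)
      exact IsIso.of_isIso_comp_right φ.1 e'.inv
    exact ⟨⟨⟨inv φ.1, IsHomLift.lift_id_inv_isIso 𝒴.p U φ.1⟩, Subtype.ext (IsIso.hom_inv_id φ.1),
      Subtype.ext (IsIso.inv_hom_id φ.1)⟩⟩
  · intro h
    refine isFibGrpd_iff.2 ⟨(isFibered_iff_of_isEquivOver hF).2 (isFibered_of_isFibGrpd h), fun U => ⟨fun {a b} φ => ?_⟩⟩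
    have := φ.2
    have := isIso_of_lift (p := 𝒴.p) (𝟙 U) (F.map φ.1)
    have : IsIso φ.1 := isIso_of_reflects_iso φ.1 F.toFunctor
    exact ⟨⟨⟨inv φ.1, IsHomLift.lift_id_inv_isIso 𝒳.p U φ.1⟩, Subtype.ext (IsIso.hom_inv_id φ.1),
      Subtype.ext (IsIso.inv_hom_id φ.1)⟩⟩

end OverBase

end Groth.Agent.FibBase
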