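import Groth.Agent.FibBase.Cartesian

/-!
# Composition of fibrations; categories fibred in sets
-/

set_option backward.isDefEq.respectTransparency false
set_option backward.isDefEq.respectTransparency.types false

universe v₃ u₃ v₂ u₂ v₁ u₁

open CategoryTheory CategoryTheory.Functor

namespace Groth.Agent.FibBase

variable {X : Type u₁} [Category.{v₁} X] {Y : Type u₂} [Category.{v₂} Y] {Z : Type u₃} [Category.{v₃} Z]
  {F : X ⥤ Y} {G : Y ⥤ Z}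

lemma sigma_ext {a b₁ b₂ : X} {φ₁ : b₁ ⟶ a} {φ₂ : b₂ ⟶ a}
    (h : (⟨b₁, φ₁⟩ : Σ ξ : X, ξ ⟶ a) = ⟨b₂, φ₂⟩) : ∃ e : b₁ = b₂, φ₁ = eqToHom e ≫ φ₂ := by
  cases h; exact ⟨rfl, by simp⟩

lemma lift_to {a b : X} {V : Y} {f : V ⟶ F.obj b} {φ : a ⟶ b} (h : F.IsHomLift f φ) :
    ∃ e : F.obj a = V, f = eqToHom e.symm ≫ F.map φ :=
  ⟨IsHomLift.domain_eq F f φ, by simpa using IsHomLift.fac F f φ⟩

lemma comp_isHomLift {a b : X} {R S : Y} (f : R ⟶ S) (φ : a ⟶ b) [F.IsHomLift f φ] :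
    (F ⋙ G).IsHomLift (G.map f) φ := by
  subst_hom_lift F f φ
  exact inferInstanceAs ((F ⋙ G).IsHomLift ((F ⋙ G).map φ) φ)

/-- Composition of strongly cartesian morphisms for composable functors. -/
lemma isSC_comp_functor {a b : X} (φ : a ⟶ b) [hF : F.IsStronglyCartesian (F.map φ) φ]
    [hG : G.IsStronglyCartesian (G.map (F.map φ)) (F.map φ)] :
    (F ⋙ G).IsStronglyCartesian ((F ⋙ G).map φ) φ := by
  refine { toIsHomLift := IsHomLift.map _ _, universal_property' := fun {z} g ψ _ => ?_ }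
  have hψ : g ≫ G.map (F.map φ) = G.map (F.map ψ) :=
    IsHomLift.eq_of_isHomLift (F ⋙ G) (g ≫ (F ⋙ G).map φ) ψ
  have : G.IsHomLift (g ≫ G.map (F.map φ)) (F.map ψ) := hψ ▸ IsHomLift.map _ _
  obtain ⟨h, ⟨hh₁, hh₂⟩, hh₃⟩ :=
    IsStronglyCartesian.universal_property G (G.map (F.map φ)) (F.map φ) g _ rfl (F.map ψ)
  have : F.IsHomLift (h ≫ F.map φ) ψ := hh₂ ▸ IsHomLift.map _ _
  obtain ⟨χ, ⟨hχ₁, hχ₂⟩, hχ₃⟩ := IsStronglyCartesian.universal_property F (F.map φ) φ h _ rfl ψ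
  refine ⟨χ, ⟨?_, hχ₂⟩, fun χ' ⟨h₁, h₂⟩ => hχ₃ χ' ⟨?_, h₂⟩⟩
  · rw [IsHomLift.eq_of_isHomLift G g h, IsHomLift.eq_of_isHomLift F h χ]
    exact IsHomLift.map (F ⋙ G) χ
  · have e : F.map χ' = h := hh₃ (F.map χ') ⟨?_, by rw [← F.map_comp, h₂]⟩
    · exact e ▸ IsHomLift.map _ _
    · rw [IsHomLift.eq_of_isHomLift (F ⋙ G) g χ']
      exact IsHomLift.map G (F.map χ')

lemma exists_sc_lift_comp (hF : F.IsFibered) (hG : G.IsFibered) (a : X) {R : Z} (f : R ⟶ G.obj (F.obj a)) :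
    ∃ (b : X) (φ : b ⟶ a), (F ⋙ G).IsStronglyCartesian f φ := by
  obtain ⟨y, ψ, hψ⟩ := IsPreFibered.exists_isCartesian G (a := F.obj a) rfl f
  obtain ⟨b, φ, hφ⟩ := IsPreFibered.exists_isCartesian F (a := a) rfl ψ
  refine ⟨b, φ, ?_⟩
  obtain ⟨rfl, e₂⟩ := lift_to hφ.toIsHomLift
  simp only [eqToHom_refl, Category.id_comp] at e₂
  subst e₂
  have hs : G.IsStronglyCartesian f (F.map φ) := inferInstance
  obtain ⟨rfl, e₂⟩ := lift_to hs.toIsHomLift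
  simp only [eqToHom_refl, Category.id_comp] at e₂
  subst e₂
  have : F.IsStronglyCartesian (F.map φ) φ := inferInstance
  exact isSC_comp_functor φ

theorem isFibered_comp (hF : F.IsFibered) (hG : G.IsFibered) : (F ⋙ G).IsFibered :=
  IsFibered.of_exists_isStronglyCartesian fun a _ f => exists_sc_lift_comp hF hG a f

theorem isFibGrpd_comp (hF : FibCat.IsFibGrpd F) (hG : FibCat.IsFibGrpd G) : FibCat.IsFibGrpd (F ⋙ G) := by
  refine ⟨fun {x V} f => ?_, fun {y x} φ => ?_⟩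
  · obtain ⟨y, ψ, hψ⟩ := hG.exists_lift (x := F.obj x) f
    obtain ⟨b, φ, hφ⟩ := hF.exists_lift (x := x) ψ
    refine ⟨b, φ, ?_⟩
    obtain ⟨rfl, e₂⟩ := lift_to hφ
    simp only [eqToHom_refl, Category.id_comp] at e₂
    subst e₂
    obtain ⟨rfl, e₂⟩ := lift_to hψ
    simp only [eqToHom_refl, Category.id_comp] at e₂
    subst e₂
    exact IsHomLift.map (F ⋙ G) φ
  · have := hF.isStronglyCartesian φ
    have := hG.isStronglyCartesian (F.map φ)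
    exact isSC_comp_functor φ

section FibSet

theorem isFibSet_iff {p : X ⥤ Y} : FibCat.IsFibSet p ↔
    ∀ (η : X) (U : Y) (f : U ⟶ p.obj η), ∃! φ : (Σ ξ : X, (ξ ⟶ η)), p.IsHomLift f φ.2 := by
  constructor
  · rintro ⟨h, hd⟩ η U f
    obtain ⟨ξ, φ, hφ⟩ := h.exists_lift f
    refine ⟨⟨ξ, φ⟩, hφ, ?_⟩
    rintro ⟨ξ', φ'⟩ (hφ' : p.IsHomLift f φ')
    obtain ⟨e, he, he'⟩ := exists_iso_of_lifts (p := p) (hp := h) f φ φ'
    have := hd U
    let t : Fiber.mk (IsHomLift.domain_eq p f φ') ⟶ Fiber.mk (IsHomLift.domain_eq p f φ) := ⟨e.hom, he⟩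
    obtain rfl : ξ' = ξ := congrArg Subtype.val ((hd U).eq_of_hom t)
    have : t = 𝟙 _ := ((hd U).subsingleton _ _).elim _ _
    have : e.hom = 𝟙 ξ' := congrArg Subtype.val this
    rw [← he', this, Category.id_comp]
  · intro h
    refine ⟨⟨fun {x V} f => ?_, fun {y x} φ => ?_⟩, fun U => ?_⟩
    · obtain ⟨⟨ξ, φ⟩, hφ, -⟩ := h x V f
      exact ⟨ξ, φ, hφ⟩
    · refine { toIsHomLift := IsHomLift.map _ _, universal_property' := fun {z} g ψ _ => ?_ }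
      obtain ⟨⟨w, χ₀⟩, hχ₀, huniq⟩ := h y _ g
      have : p.IsHomLift g χ₀ := hχ₀
      obtain ⟨e, he⟩ := sigma_ext ((h x _ (g ≫ p.map φ)).unique (y₁ := ⟨z, ψ⟩) (y₂ := ⟨w, χ₀ ≫ φ⟩)
        inferInstance (inferInstanceAs (p.IsHomLift (g ≫ p.map φ) (χ₀ ≫ φ))))
      subst e
      refine ⟨χ₀, ⟨hχ₀, by simpa using he.symm⟩, fun χ' hχ' => ?_⟩
      simpa using huniq ⟨z, χ'⟩ hχ'.1
    · have : ∀ {a b : p.Fiber U} (φ : a ⟶ b), ∃ e : a.1 = b.1, φ.1 = eqToHom e := by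
        rintro ⟨a, ha⟩ ⟨b, hb⟩ ⟨φ, hφ⟩
        have h₁ : p.IsHomLift (eqToHom hb.symm : U ⟶ p.obj b) φ := by subst hb; simpa using hφ
        have h₂ : p.IsHomLift (eqToHom hb.symm : U ⟶ p.obj b) (𝟙 b) := by subst hb; simp
        obtain ⟨e, he⟩ := sigma_ext ((h b _ (eqToHom hb.symm)).unique (y₁ := ⟨a, φ⟩) (y₂ := ⟨b, 𝟙 b⟩) h₁ h₂)
        exact ⟨e, by simpa using he⟩
      refine { subsingleton := fun a b => ⟨fun φ φ' => Subtype.ext ?_⟩, eq_of_hom := fun φ => Subtype.ext (this φ).1 }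
      rw [(this φ).2, (this φ').2]

lemma fibSet_unique (hG : FibCat.IsFibSet G) {x : Y} {V : Z} {f : V ⟶ G.obj x} {y y' : Y} {φ : y ⟶ x} {φ' : y' ⟶ x}
    (h : G.IsHomLift f φ) (h' : G.IsHomLift f φ') : ∃ e : y = y', φ = eqToHom e ≫ φ' :=
  sigma_ext ((isFibSet_iff.1 hG x V f).unique (y₁ := ⟨y, φ⟩) (y₂ := ⟨y', φ'⟩) h h')

lemma isHomLift_of_comp (hG : FibCat.IsFibSet G) {x y : X} {φ : y ⟶ x} {V : Y} (f : V ⟶ F.obj x)
    (h : (F ⋙ G).IsHomLift (G.map f) φ) : F.IsHomLift f φ := by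
  have h' : G.IsHomLift (G.map f) (F.map φ) := by
    refine IsHomLift.of_fac' G _ _ (IsHomLift.domain_eq (F ⋙ G) (G.map f) φ)
      (IsHomLift.codomain_eq (F ⋙ G) (G.map f) φ) ?_
    exact IsHomLift.fac' (F ⋙ G) (G.map f) φ
  obtain ⟨e, he⟩ := fibSet_unique hG (f := G.map f) h' (IsHomLift.map G f)
  subst e
  simp only [eqToHom_refl, Category.id_comp] at he
  subst he
  exact IsHomLift.map F φ

lemma isSC_of_comp (hG : FibCat.IsFibSet G) {x y : X} {φ : y ⟶ x} {V : Y} (f : V ⟶ F.obj x)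
    [h : (F ⋙ G).IsStronglyCartesian (G.map f) φ] : F.IsStronglyCartesian f φ := by
  have hlift := isHomLift_of_comp hG f h.toIsHomLift
  obtain ⟨rfl, e₂⟩ := lift_to hlift
  simp only [eqToHom_refl, Category.id_comp] at e₂
  subst e₂
  refine { toIsHomLift := IsHomLift.map _ _, universal_property' := fun {z} g ψ _ => ?_ }
  have hψ := IsHomLift.eq_of_isHomLift F (g ≫ F.map φ) ψ
  have : (F ⋙ G).IsHomLift (G.map g ≫ G.map (F.map φ)) ψ := by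
    rw [← G.map_comp, hψ]; exact IsHomLift.map (F ⋙ G) ψ
  obtain ⟨χ, ⟨hχ₁, hχ₂⟩, hχ₃⟩ :=
    IsStronglyCartesian.universal_property (F ⋙ G) (G.map (F.map φ)) φ (G.map g) _ rfl ψ
  refine ⟨χ, ⟨isHomLift_of_comp hG g hχ₁, hχ₂⟩, fun χ' ⟨h₁, h₂⟩ => hχ₃ χ' ⟨comp_isHomLift g χ', h₂⟩⟩

theorem isFibered_of_comp (hG : FibCat.IsFibSet G) (h : (F ⋙ G).IsFibered) : F.IsFibered := by
  refine IsFibered.of_exists_isStronglyCartesian fun a R f => ?_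
  obtain ⟨b, φ, hφ⟩ := IsPreFibered.exists_isCartesian (F ⋙ G) (a := a) rfl (G.map f)
  have : (F ⋙ G).IsStronglyCartesian (G.map f) φ := inferInstance
  exact ⟨b, φ, isSC_of_comp hG f⟩

theorem isFibGrpd_of_comp (hG : FibCat.IsFibSet G) (h : FibCat.IsFibGrpd (F ⋙ G)) : FibCat.IsFibGrpd F := by
  refine ⟨fun {x V} f => ?_, fun {y x} φ => ?_⟩
  · obtain ⟨b, φ, hφ⟩ := h.exists_lift (x := x) (G.map f)
    exact ⟨b, φ, isHomLift_of_comp hG f hφ⟩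
  · have : (F ⋙ G).IsStronglyCartesian (G.map (F.map φ)) φ := h.isStronglyCartesian φ
    exact isSC_of_comp hG (F.map φ)

theorem isFibered_iff_comp (hG : FibCat.IsFibSet G) : F.IsFibered ↔ (F ⋙ G).IsFibered :=
  ⟨fun h => isFibered_comp h (isFibered_of_isFibSet hG), isFibered_of_comp hG⟩

theorem isFibGrpd_iff_comp (hG : FibCat.IsFibSet G) : FibCat.IsFibGrpd F ↔ FibCat.IsFibGrpd (F ⋙ G) :=
  ⟨fun h => isFibGrpd_comp h hG.1, isFibGrpd_of_comp hG⟩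

theorem isFibSet_iff_comp (hG : FibCat.IsFibSet G) : FibCat.IsFibSet F ↔ FibCat.IsFibSet (F ⋙ G) := by
  rw [isFibSet_iff (p := F), isFibSet_iff (p := F ⋙ G)]
  constructor
  · intro h η U f
    obtain ⟨⟨V, t⟩, ht, -⟩ := isFibSet_iff.1 hG (F.obj η) U f
    obtain ⟨⟨ξ, φ⟩, hφ, hu⟩ := h η V t
    have : F.IsHomLift t φ := hφ
    have hG' : G.IsHomLift f t := ht
    obtain ⟨rfl, e₂⟩ := lift_to this
    simp only [eqToHom_refl, Category.id_comp] at e₂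
    subst e₂
    refine ⟨⟨ξ, φ⟩, IsHomLift.of_fac' (F ⋙ G) f φ (IsHomLift.domain_eq G f (F.map φ)) rfl
      (IsHomLift.fac' G f (F.map φ)), ?_⟩
    rintro ⟨ξ', φ'⟩ hφ'
    obtain ⟨e, he⟩ := fibSet_unique hG (φ := F.map φ') (φ' := F.map φ) (f := f)
      (IsHomLift.of_fac' G f _ (IsHomLift.domain_eq (F ⋙ G) f φ') rfl (IsHomLift.fac' (F ⋙ G) f φ')) hG'
    exact hu ⟨ξ', φ'⟩ (IsHomLift.of_fac' F _ φ' e rfl (by simpa using he))
  · intro h η V t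
    obtain ⟨⟨ξ, φ⟩, hφ, hu⟩ := h η _ (G.map t)
    refine ⟨⟨ξ, φ⟩, isHomLift_of_comp hG t hφ, fun ⟨ξ', φ'⟩ hφ' => hu ⟨ξ', φ'⟩ ?_⟩
    have : F.IsHomLift t φ' := hφ'
    exact comp_isHomLift t φ'

end FibSet

theorem isFibSet_overForget (U : X) : FibCat.IsFibSet (Over.forget U) := by
  rw [isFibSet_iff]
  intro η V f
  refine ⟨⟨Over.mk (f ≫ η.hom), Over.homMk f⟩, IsHomLift.map (Over.forget U) (Over.homMk f : Over.mk (f ≫ η.hom) ⟶ η), ?_⟩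
  rintro ⟨ξ, φ⟩ hφ
  have : (Over.forget U).IsHomLift f φ := hφ
  obtain ⟨e₁, e₂⟩ := (⟨IsHomLift.domain_eq (Over.forget U) f φ, IsHomLift.fac' (Over.forget U) f φ⟩ :
    ∃ e : ξ.left = V, φ.left = eqToHom e ≫ f ≫ eqToHom rfl)
  subst e₁
  simp only [eqToHom_refl, Category.id_comp, Category.comp_id] at e₂
  subst e₂
  have key : ∀ {a : X} (h : a ⟶ U) (l : a ⟶ η.left) (hw : l ≫ η.hom = h),
      (⟨Over.mk h, Over.homMk l hw⟩ : Σ ζ : Over U, ζ ⟶ η) = ⟨Over.mk (l ≫ η.hom), Over.homMk l⟩ := by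
    intro a h l hw; subst hw; rfl
  obtain ⟨ξl, ⟨⟨⟩⟩, ξh⟩ := ξ
  have hw := Over.w φ
  generalize hl : φ.left = l at *
  obtain rfl : φ = Over.homMk l hw := Over.OverMorphism.ext hl
  exact key ξh l hw

instance (U : X) : FibCat.IsFibGrpd (Over.forget U) := (isFibSet_overForget U).1

end Groth.Agent.FibBase
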