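import Groth.Agent.FibBase.Prod

/-!
# Representability of the diagonal and of all maps from slices
-/

set_option backward.isDefEq.respectTransparency false
set_option backward.isDefEq.respectTransparency.types false

universe v₂ u₂ v u

open CategoryTheory CategoryTheory.Functor CategoryTheory.Limits

namespace Groth.Agent.FibBase

variable {C : Type u} [Category.{v} C]

/-- The cone functor `C/(A × B) ⟶ C/A ×_C C/B`. -/
noncomputable def sliceProd (A B : C) [HasBinaryProduct A B] :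
    FibCat.overCat (A ⨯ B) ⥤ᵇ FibCat.fp (FibCat.toSelf (FibCat.overCat A)) (FibCat.toSelf (FibCat.overCat B)) :=
  FibCat.fpLift (mapB prod.fst) (mapB prod.snd) (selfIso _ _)

theorem sliceProd_isEquivOver (A B : C) [HasBinaryProduct A B] : FibCat.IsEquivOver (sliceProd A B) := by
  refine isEquivOver_of_exists_iso _ ⟨fun {x y} t => ?_⟩ ⟨fun {x y} t t' h => ?_⟩ fun η => ?_
  · have w₁ : t.hom.fst.left ≫ y.hom ≫ prod.fst = x.hom ≫ prod.fst := Over.w t.hom.fst
    have w₂ : t.hom.snd.left ≫ y.hom ≫ prod.snd = x.hom ≫ prod.snd := Over.w t.hom.snd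
    have e : t.hom.fst.left = t.hom.snd.left := by
      have w : t.hom.fst.left ≫ ((sliceProd A B).obj y).obj.iso.hom =
          ((sliceProd A B).obj x).obj.iso.hom ≫ t.hom.snd.left := t.hom.w
      rw [self_hom_eq ((sliceProd A B).obj y).property, self_hom_eq ((sliceProd A B).obj x).property] at w
      simp at w
      exact (Category.comp_id _).symm.trans w
    refine ⟨Over.homMk (V := y) t.hom.fst.left (Limits.prod.hom_ext ((Category.assoc _ _ _).trans w₁) ?_), ?_⟩
    · exact (Category.assoc _ _ _).trans (e ▸ w₂)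
    · exact ObjectProperty.hom_ext _ (CategoricalPullback.hom_ext (Over.OverMorphism.ext rfl)
        (Over.OverMorphism.ext e))
  · exact Over.OverMorphism.ext (congrArg (fun s => s.hom.fst.left) h : t.left = t'.left)
  · have hS : η.obj.snd.left = η.obj.fst.left := snd_proj η
    let l := prod.lift η.obj.fst.hom (eqToHom hS.symm ≫ η.obj.snd.hom)
    let i₁ : (mapB (prod.fst : A ⨯ B ⟶ A)).obj (Over.mk l) ≅ η.obj.fst := Over.isoMk (Iso.refl _) (by
      show 𝟙 _ ≫ η.obj.fst.hom = l ≫ prod.fst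
      simp [l])
    let i₂ : (mapB (prod.snd : A ⨯ B ⟶ B)).obj (Over.mk l) ≅ η.obj.snd := Over.isoMk (eqToIso hS.symm) (by
      show eqToHom hS.symm ≫ η.obj.snd.hom = l ≫ prod.snd
      simp [l])
    have l₁ : (Over.forget A).IsHomLift (𝟙 η.obj.fst.left) i₁.hom := by
      refine isHomLift_id_of_map_eq (p := Over.forget A) ?_ ?_ ?_ <;> rfl
    have l₂ : (Over.forget B).IsHomLift (𝟙 η.obj.fst.left) i₂.hom := by
      refine isHomLift_id_of_map_eq (p := Over.forget B) ?_ hS ?_ <;> rfl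
    let ee : (sliceProd A B).obj (Over.mk l) ≅ η :=
      (FibCat.fpProp _ _).isoMk (CategoricalPullback.mkIso i₁ i₂
        (self_w (x := (sliceProd A B).obj (Over.mk l)) (y := η) i₁.hom i₂.hom _ l₁ l₂))
    exact ⟨Over.mk l, ee, fp_isHomLift (F := FibCat.toSelf (FibCat.overCat A))
      (G := FibCat.toSelf (FibCat.overCat B)) (𝟙 η.obj.fst.left) _ (h := l₁)⟩

/-- The diagonal of a slice over the base is representable. -/
theorem rep1_diag_overCat [HasBinaryProducts C] [HasPullbacks C] (U : C) :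
    FibCat.IsRepresentable1 (FibCat.diag (FibCat.toSelf (FibCat.overCat U))) := by
  let δ : U ⟶ U ⨯ U := prod.lift (𝟙 U) (𝟙 U)
  let cmp : ∀ x : (FibCat.overCat U).obj, (BasedFunctor.comp (mapB δ) (sliceProd U U)).obj x ≅
      (BasedFunctor.comp (BasedFunctor.id _) (FibCat.diag (FibCat.toSelf (FibCat.overCat U)))).obj x := fun x =>
    (FibCat.fpProp _ _).isoMk (CategoricalPullback.mkIso
      (Over.isoMk (Iso.refl _) (by
        show 𝟙 x.left ≫ x.hom = (x.hom ≫ δ) ≫ prod.fst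
        simp [δ]))
      (Over.isoMk (Iso.refl _) (by
        show 𝟙 x.left ≫ x.hom = (x.hom ≫ δ) ≫ prod.snd
        simp [δ]))
      (self_w (x := (BasedFunctor.comp (mapB δ) (sliceProd U U)).obj x)
        (y := (BasedFunctor.comp (BasedFunctor.id _) (FibCat.diag (FibCat.toSelf (FibCat.overCat U)))).obj x)
        _ _ x.left (by refine isHomLift_id_of_map_eq (p := Over.forget U) ?_ ?_ ?_ <;> rfl)
        (by refine isHomLift_id_of_map_eq (p := Over.forget U) ?_ ?_ ?_ <;> rfl)))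
  let e : BasedFunctor.comp (mapB δ) (sliceProd U U) ≅
      BasedFunctor.comp (BasedFunctor.id _) (FibCat.diag (FibCat.toSelf (FibCat.overCat U))) :=
    BasedNatIso.mkNatIso (NatIso.ofComponents cmp (fun {x y} φ =>
      ObjectProperty.hom_ext _ (CategoricalPullback.hom_ext
        (Over.OverMorphism.ext ((Category.comp_id φ.left).trans (Category.id_comp φ.left).symm))
        (Over.OverMorphism.ext ((Category.comp_id φ.left).trans (Category.id_comp φ.left).symm)))))
      (fun x => fp_isHomLift (F := FibCat.toSelf (FibCat.overCat U)) (G := FibCat.toSelf (FibCat.overCat U))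
        (𝟙 x.left) _ (h := by refine isHomLift_id_of_map_eq (p := Over.forget U) ?_ ?_ ?_ <;> rfl))
  exact (rep1_iff_of_square isEquivOver_id (sliceProd_isEquivOver U U) e).2 (rep1_mapB δ)

section

variable {𝒮 : BasedCategory.{v, max u v} C}

theorem rep1_of_diag [HasBinaryProducts C] (hΔ : FibCat.IsRepresentable1 (FibCat.diag (FibCat.toSelf 𝒮)))
    (U : C) (G : FibCat.overCat U ⥤ᵇ 𝒮) : FibCat.IsRepresentable1 G := by
  intro V H
  have : (BasedFunctor.id (FibCat.selfOver C)).toFunctor.Full := inferInstanceAs (𝟭 _).Full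
  have : (BasedFunctor.id (FibCat.selfOver C)).toFunctor.Faithful := inferInstanceAs (𝟭 _).Faithful
  have h := fpMap_isEquivOver (F := BasedFunctor.comp H (FibCat.toSelf 𝒮)) (G := BasedFunctor.comp G (FibCat.toSelf 𝒮))
    (F' := FibCat.toSelf (FibCat.overCat V)) (G' := FibCat.toSelf (FibCat.overCat U))
    (a := BasedFunctor.id (FibCat.overCat V)) (b := BasedFunctor.id (FibCat.overCat U))
    (c := BasedFunctor.id (FibCat.selfOver C)) (selfIso _ _) (selfIso _ _)
    isEquivOver_id isEquivOver_id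
  have hW := rep_of_equiv' _ h (rep_of_equiv' _ (sliceProd_isEquivOver V U) ⟨_, _, isEquivOver_id⟩)
  exact rep_of_equiv (diagComparison H G (FibCat.toSelf 𝒮)) (diagComparison_isEquivOver H G _)
    (rep_fp hW _ _ hΔ)

theorem rep1_diag_of_all [HasBinaryProducts C] [HasPullbacks C]
    (h : ∀ (U : C) (G : FibCat.overCat U ⥤ᵇ 𝒮), FibCat.IsRepresentable1 G) :
    FibCat.IsRepresentable1 (FibCat.diag (FibCat.toSelf 𝒮)) := by
  intro U K
  let t := FibCat.toSelf 𝒮
  let K₁ := BasedFunctor.comp K (FibCat.fpFst t t)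
  let K₂ := BasedFunctor.comp K (FibCat.fpSnd t t)
  let tU := FibCat.toSelf (FibCat.overCat U)
  let P : FibCat.fp K₁ K₂ ⥤ᵇ FibCat.fp tU tU :=
    FibCat.fpLift (FibCat.fpFst K₁ K₂) (FibCat.fpSnd K₁ K₂) (selfIso _ _)
  have hW := rep_fp (h U K₂ U K₁) P (FibCat.diag tU) (rep1_diag_overCat U)
  let a : FibCat.fp K (FibCat.diag t) ⥤ᵇ FibCat.fp K₁ K₂ :=
    FibCat.fpLift (FibCat.fpFst K (FibCat.diag t)) (FibCat.fpFst K (FibCat.diag t))
      (whiskerRightIso (FibCat.fpIso K (FibCat.diag t)) (FibCat.fpFst t t) ≪≫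
        (whiskerRightIso (FibCat.fpIso K (FibCat.diag t)) (FibCat.fpSnd t t)).symm)
  let cmp : ∀ x, (BasedFunctor.comp a P).obj x ≅
      (BasedFunctor.comp (FibCat.fpFst K (FibCat.diag t)) (FibCat.diag tU)).obj x := fun x =>
    (FibCat.fpProp _ _).isoMk (CategoricalPullback.mkIso (Iso.refl _) (Iso.refl _)
      (self_w (x := (BasedFunctor.comp a P).obj x)
        (y := (BasedFunctor.comp (FibCat.fpFst K (FibCat.diag t)) (FibCat.diag tU)).obj x)
        _ _ ((Over.forget U).obj x.obj.fst) (IsHomLift.id rfl) (IsHomLift.id rfl)))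
  let e : BasedFunctor.comp a P ≅ BasedFunctor.comp (FibCat.fpFst K (FibCat.diag t)) (FibCat.diag tU) :=
    BasedNatIso.mkNatIso (NatIso.ofComponents cmp (fun {x y} φ =>
      ObjectProperty.hom_ext _ (CategoricalPullback.hom_ext
        ((Category.comp_id φ.hom.fst).trans (Category.id_comp φ.hom.fst).symm)
        ((Category.comp_id φ.hom.fst).trans (Category.id_comp φ.hom.fst).symm))))
      (fun x => fp_isHomLift (F := tU) (G := tU) (𝟙 ((Over.forget U).obj x.obj.fst)) _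
        (h := IsHomLift.id (p := Over.forget U) (a := x.obj.fst) rfl))
  refine rep_of_equiv (FibCat.fpLift a (FibCat.fpFst K (FibCat.diag t)) e)
    (isEquivOver_of_exists_iso _ ⟨fun {x y} s => ?_⟩ ⟨fun {x y} s s' hs => ?_⟩ fun η => ?_) hW
  · have e₁ : s.hom.fst.hom.fst ≫ 𝟙 y.obj.fst = 𝟙 x.obj.fst ≫ s.hom.snd := congrArg (fun s => s.hom.fst) s.hom.w
    have e₂ : s.hom.fst.hom.snd ≫ 𝟙 y.obj.fst = 𝟙 x.obj.fst ≫ s.hom.snd := congrArg (fun s => s.hom.snd) s.hom.w
    replace e₁ := (Category.comp_id _).symm.trans (e₁.trans (Category.id_comp _))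
    replace e₂ := (Category.comp_id _).symm.trans (e₂.trans (Category.id_comp _))
    let px := (FibCat.fpFst t t).toFunctor.mapIso x.obj.iso
    let qx := (FibCat.fpSnd t t).toFunctor.mapIso x.obj.iso
    let py := (FibCat.fpFst t t).toFunctor.mapIso y.obj.iso
    let qy := (FibCat.fpSnd t t).toFunctor.mapIso y.obj.iso
    have w : K₁.map s.hom.fst.hom.fst ≫ py.hom ≫ qy.inv = (px.hom ≫ qx.inv) ≫ K₂.map s.hom.fst.hom.snd :=
      s.hom.fst.hom.w
    let r : x.obj.snd ⟶ y.obj.snd := px.inv ≫ K₁.map s.hom.snd ≫ py.hom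
    have w₁ : K₁.map s.hom.snd ≫ py.hom = px.hom ≫ r := (Iso.hom_inv_id_assoc px _).symm
    have w₂ : K₂.map s.hom.snd ≫ qy.hom = qx.hom ≫ r := by
      rw [e₁, e₂] at w
      have w' := congrArg (fun z => qx.hom ≫ px.inv ≫ z ≫ qy.hom) w
      simp only [Category.assoc, Iso.inv_hom_id, Iso.inv_hom_id_assoc, Iso.hom_inv_id_assoc] at w'
      exact w'.symm.trans (by simp [r])
    exact ⟨ObjectProperty.homMk ⟨s.hom.snd, r, ObjectProperty.hom_ext _ (CategoricalPullback.hom_ext w₁ w₂)⟩,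
      ObjectProperty.hom_ext _ (CategoricalPullback.hom_ext
        (ObjectProperty.hom_ext _ (CategoricalPullback.hom_ext e₁.symm e₂.symm)) rfl)⟩
  · have hu : s.hom.fst = s'.hom.fst := congrArg (fun s => s.hom.snd) hs
    refine ObjectProperty.hom_ext _ (CategoricalPullback.hom_ext hu ?_)
    have w₁ : K.map s.hom.fst ≫ y.obj.iso.hom = x.obj.iso.hom ≫ (FibCat.diag t).map s.hom.snd := s.hom.w
    have w₂ : K.map s'.hom.fst ≫ y.obj.iso.hom = x.obj.iso.hom ≫ (FibCat.diag t).map s'.hom.snd := s'.hom.w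
    rw [hu, w₂, cancel_epi] at w₁
    exact congrArg (fun z => z.hom.fst) w₁.symm
  · obtain ⟨⟨w, u, c⟩, hη⟩ := η
    let S := (Over.forget U).obj w.obj.fst
    haveI : (FibCat.fp tU tU).p.IsHomLift (𝟙 S) c.hom := hη
    let c₁ : w.obj.fst ≅ u := (FibCat.fpFst tU tU).toFunctor.mapIso c
    let c₂ : w.obj.snd ≅ u := (FibCat.fpSnd tU tU).toFunctor.mapIso c
    have m₁ : (Over.forget U).IsHomLift (𝟙 S) c₁.hom := (FibCat.fpFst tU tU).preserves_isHomLift (𝟙 S) c.hom
    have m₂ : (Over.forget U).IsHomLift (𝟙 S) c₂.hom := (FibCat.fpSnd tU tU).preserves_isHomLift (𝟙 S) c.hom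
    have m₁' := IsHomLift.lift_id_inv (Over.forget U) S c₁
    have m₂' := IsHomLift.lift_id_inv (Over.forget U) S c₂
    have n₁ : 𝒮.p.IsHomLift (𝟙 S) (K₁.map c₁.inv) :=
      haveI : (FibCat.overCat U).p.IsHomLift (𝟙 S) c₁.inv := m₁'
      K₁.preserves_isHomLift (𝟙 S) c₁.inv
    have n₂ : 𝒮.p.IsHomLift (𝟙 S) (K₂.map c₂.hom) :=
      haveI : (FibCat.overCat U).p.IsHomLift (𝟙 S) c₂.hom := m₂
      K₂.preserves_isHomLift (𝟙 S) c₂.hom
    have nw : 𝒮.p.IsHomLift (𝟙 S) w.obj.iso.hom := w.property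
    let i₁ : K₁.obj u ≅ K₂.obj u :=
      (K₁.toFunctor.mapIso c₁).symm ≪≫ w.obj.iso ≪≫ K₂.toFunctor.mapIso c₂
    have l₁ : 𝒮.p.IsHomLift (𝟙 S) i₁.hom := by
      show 𝒮.p.IsHomLift (𝟙 S) (K₁.map c₁.inv ≫ w.obj.iso.hom ≫ K₂.map c₂.hom)
      infer_instance
    have hu : (Over.forget U).obj u = S := IsHomLift.codomain_eq (Over.forget U) (𝟙 S) c₁.hom
    let i : K.obj u ≅ (FibCat.diag t).obj (K₂.obj u) :=
      (FibCat.fpProp _ _).isoMk (CategoricalPullback.mkIso i₁ (Iso.refl _)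
        (self_w (x := K.obj u) (y := (FibCat.diag t).obj (K₂.obj u)) i₁.hom (𝟙 _) S l₁
          (IsHomLift.id ((K₂.w_obj u).trans hu))))
    have li : (FibCat.fp t t).p.IsHomLift (𝟙 ((FibCat.overCat U).p.obj u)) i.hom :=
      isHomLift_id_congr hu.symm (fp_isHomLift (F := t) (G := t) (𝟙 S) _ (h := l₁))
    let x : (FibCat.fp K (FibCat.diag t)).obj := ⟨⟨u, K₂.obj u, i⟩, li⟩
    let e₀ : a.obj x ≅ w := (FibCat.fpProp _ _).isoMk (CategoricalPullback.mkIso c₁.symm c₂.symm (by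
      show K₁.map c₁.inv ≫ w.obj.iso.hom =
        ((K₁.map c₁.inv ≫ w.obj.iso.hom ≫ K₂.map c₂.hom) ≫ 𝟙 (K₂.obj u)) ≫ K₂.map c₂.inv
      simp only [Category.comp_id, Category.assoc, ← K₂.toFunctor.map_comp, Iso.hom_inv_id,
        CategoryTheory.Functor.map_id]))
    let ee : (FibCat.fpLift a (FibCat.fpFst K (FibCat.diag t)) e).obj x ≅
        (⟨⟨w, u, c⟩, hη⟩ : (FibCat.fp P (FibCat.diag tU)).obj) :=
      (FibCat.fpProp _ _).isoMk (CategoricalPullback.mkIso e₀ (Iso.refl _) ?_)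
    refine ⟨x, ee, ?_⟩
    rotate_left
    · refine ObjectProperty.hom_ext _ (CategoricalPullback.hom_ext ?_ ?_)
      · show c₁.inv ≫ c₁.hom = 𝟙 u ≫ 𝟙 u
        simp
      · show c₂.inv ≫ c₂.hom = 𝟙 u ≫ 𝟙 u
        simp
    · exact fp_isHomLift (F := P) (G := FibCat.diag tU) (𝟙 S) _
        (h := fp_isHomLift (F := K₁) (G := K₂) (𝟙 S) _ (h := m₁'))

end

end Groth.Agent.FibBase
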