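import Groth.Agent.FibBase.Comp

/-!
# Fibrations and 2-fibre products over a base
-/

set_option backward.isDefEq.respectTransparency false
set_option backward.isDefEq.respectTransparency.types false

universe v₄ u₄ v₃ u₃ v₂ u₂ v u

open CategoryTheory CategoryTheory.Functor CategoryTheory.Limits

namespace Groth.Agent.FibBase

variable {C : Type u} [Category.{v} C]

instance isFibGrpd_id : FibCat.IsFibGrpd (𝟭 C) := by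
  refine (isFibSet_iff.2 fun η U f => ?_).1
  refine ⟨⟨U, f⟩, IsHomLift.map (𝟭 C) f, ?_⟩
  rintro ⟨ξ, φ⟩ (hφ : (𝟭 C).IsHomLift f φ)
  obtain ⟨e₁, e₂⟩ := lift_to hφ
  obtain rfl : ξ = U := e₁
  simp only [eqToHom_refl, Category.id_comp] at e₂
  subst e₂; rfl

variable {𝒳 : BasedCategory.{v₂, u₂} C} {𝒴 : BasedCategory.{v₃, u₃} C} {𝒮 : BasedCategory.{v₄, u₄} C}

lemma snd_proj {F : 𝒳 ⥤ᵇ 𝒮} {G : 𝒴 ⥤ᵇ 𝒮} (y : (FibCat.fp F G).obj) :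
    𝒴.p.obj y.obj.snd = 𝒳.p.obj y.obj.fst := by
  have : 𝒮.p.IsHomLift (𝟙 (𝒳.p.obj y.obj.fst)) y.obj.iso.hom := y.property
  exact (G.w_obj _).symm.trans (IsHomLift.codomain_eq 𝒮.p (𝟙 (𝒳.p.obj y.obj.fst)) y.obj.iso.hom)

lemma preservesHomLift_snd {F : 𝒳 ⥤ᵇ 𝒮} {G : 𝒴 ⥤ᵇ 𝒮} {x y : (FibCat.fp F G).obj} (φ : x ⟶ y) :
    𝒴.p.IsHomLift (𝒳.p.map φ.hom.fst) φ.hom.snd :=
  FibCat.fp_isHomLift_snd F G φ

variable {F : 𝒳 ⥤ᵇ 𝒮} {G : 𝒴 ⥤ᵇ 𝒮}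

/-- Lifting of a morphism of the first component. -/
lemma fp_isHomLift {R S : C} (f : R ⟶ S) {x y : (FibCat.fp F G).obj} (φ : x ⟶ y)
    [h : 𝒳.p.IsHomLift f φ.hom.fst] : (FibCat.fp F G).p.IsHomLift f φ :=
  IsHomLift.of_fac' _ f φ (IsHomLift.domain_eq 𝒳.p f φ.hom.fst) (IsHomLift.codomain_eq 𝒳.p f φ.hom.fst)
    (IsHomLift.fac' 𝒳.p f φ.hom.fst)

lemma fp_isHomLift_fst {R S : C} (f : R ⟶ S) {x y : (FibCat.fp F G).obj} (φ : x ⟶ y)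
    [h : (FibCat.fp F G).p.IsHomLift f φ] : 𝒳.p.IsHomLift f φ.hom.fst :=
  IsHomLift.of_fac' _ f φ.hom.fst (IsHomLift.domain_eq (FibCat.fp F G).p f φ)
    (IsHomLift.codomain_eq (FibCat.fp F G).p f φ) (IsHomLift.fac' (FibCat.fp F G).p f φ)

lemma fp_isHomLift_snd' {R S : C} (f : R ⟶ S) {x y : (FibCat.fp F G).obj} (φ : x ⟶ y)
    [h : (FibCat.fp F G).p.IsHomLift f φ] : 𝒴.p.IsHomLift f φ.hom.snd := by
  subst_hom_lift (FibCat.fp F G).p f φ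
  exact FibCat.fp_isHomLift_snd F G φ

/-- A morphism of the fibre product with strongly cartesian components is strongly cartesian. -/
theorem fp_isSC {x y : (FibCat.fp F G).obj} (φ : x ⟶ y)
    (h₁ : 𝒳.p.IsStronglyCartesian (𝒳.p.map φ.hom.fst) φ.hom.fst)
    (h₂ : 𝒴.p.IsStronglyCartesian (𝒳.p.map φ.hom.fst) φ.hom.snd)
    (h₃ : 𝒮.p.IsStronglyCartesian (𝒳.p.map φ.hom.fst) (G.map φ.hom.snd)) :
    (FibCat.fp F G).p.IsStronglyCartesian ((FibCat.fp F G).p.map φ) φ := by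
  refine { toIsHomLift := IsHomLift.map _ _, universal_property' := fun {z} g ψ hψ => ?_ }
  have hψ₁ : 𝒳.p.IsHomLift (g ≫ 𝒳.p.map φ.hom.fst) ψ.hom.fst := fp_isHomLift_fst _ ψ (h := hψ)
  have hψ₂ : 𝒴.p.IsHomLift (g ≫ 𝒳.p.map φ.hom.fst) ψ.hom.snd := fp_isHomLift_snd' _ ψ (h := hψ)
  obtain ⟨χ₁, ⟨ha, ha'⟩, hua⟩ :=
    IsStronglyCartesian.universal_property 𝒳.p (𝒳.p.map φ.hom.fst) φ.hom.fst g _ rfl ψ.hom.fst
  obtain ⟨χ₂, ⟨hb, hb'⟩, hub⟩ :=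
    IsStronglyCartesian.universal_property 𝒴.p (𝒳.p.map φ.hom.fst) φ.hom.snd g _ rfl ψ.hom.snd
  have hx : 𝒮.p.IsHomLift (𝟙 (𝒳.p.obj x.obj.fst)) x.obj.iso.hom := x.property
  have hz : 𝒮.p.IsHomLift (𝟙 (𝒳.p.obj z.obj.fst)) z.obj.iso.hom := z.property
  have hg₁ : 𝒮.p.IsHomLift g (F.map χ₁ ≫ x.obj.iso.hom) :=
    IsHomLift.comp_lift_id_right' 𝒮.p g (F.map χ₁) (𝒳.p.obj x.obj.fst) x.obj.iso.hom
  have hg₂ : 𝒮.p.IsHomLift g (z.obj.iso.hom ≫ G.map χ₂) :=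
    IsHomLift.comp_lift_id_left' 𝒮.p (𝒳.p.obj z.obj.fst) z.obj.iso.hom g (G.map χ₂)
  have w : F.map χ₁ ≫ x.obj.iso.hom = z.obj.iso.hom ≫ G.map χ₂ := by
    refine IsStronglyCartesian.ext 𝒮.p (𝒳.p.map φ.hom.fst) (G.map φ.hom.snd) g ?_
    simp only [Category.assoc]
    rw [← φ.hom.w, ← G.toFunctor.map_comp, hb', ← F.toFunctor.map_comp_assoc, ha']
    exact ψ.hom.w
  refine ⟨ObjectProperty.homMk ⟨χ₁, χ₂, w⟩, ⟨fp_isHomLift g _ (h := ha), ?_⟩, ?_⟩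
  · exact ObjectProperty.hom_ext _ (CategoricalPullback.hom_ext ha' hb')
  · rintro χ ⟨hχ, rfl⟩
    exact ObjectProperty.hom_ext _ (CategoricalPullback.hom_ext
      (hua χ.hom.fst ⟨fp_isHomLift_fst g χ, rfl⟩) (hub χ.hom.snd ⟨fp_isHomLift_snd' g χ, rfl⟩))

/-- Existence of lifts in the fibre product. -/
theorem fp_exists_lift (y : (FibCat.fp F G).obj) {V : C} (f : V ⟶ 𝒳.p.obj y.obj.fst)
    {a : 𝒳.obj} (φ : a ⟶ y.obj.fst) [hφ : 𝒳.p.IsHomLift f φ] {b : 𝒴.obj} (ψ : b ⟶ y.obj.snd) [hψ : 𝒴.p.IsHomLift f ψ]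
    (hF : 𝒮.p.IsStronglyCartesian f (F.map φ)) (hG : 𝒮.p.IsStronglyCartesian f (G.map ψ)) :
    ∃ (x : (FibCat.fp F G).obj) (χ : x ⟶ y) (e₁ : x.obj.fst = a) (e₂ : x.obj.snd = b),
      χ.hom.fst = eqToHom e₁ ≫ φ ∧ χ.hom.snd = eqToHom e₂ ≫ ψ ∧ (FibCat.fp F G).p.IsHomLift f χ := by
  have hy : 𝒮.p.IsHomLift (𝟙 (𝒳.p.obj y.obj.fst)) y.obj.iso.hom := y.property
  have h₁ : 𝒮.p.IsStronglyCartesian f (F.map φ ≫ y.obj.iso.hom) := by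
    simpa using IsStronglyCartesian.comp (p := 𝒮.p) (f := f) (g := 𝟙 (𝒳.p.obj y.obj.fst)) (φ := F.map φ)
      (ψ := y.obj.iso.hom)
  let e := IsCartesian.domainUniqueUpToIso 𝒮.p f (G.map ψ) (F.map φ ≫ y.obj.iso.hom)
  have he : 𝒮.p.IsHomLift (𝟙 V) e.hom := inferInstance
  let x : (FibCat.fp F G).obj := ⟨⟨a, b, e⟩,
    isHomLift_id_congr (IsHomLift.domain_eq 𝒳.p f φ).symm he⟩
  refine ⟨x, ObjectProperty.homMk ⟨φ, ψ, ?_⟩, rfl, rfl, (Category.id_comp φ).symm, (Category.id_comp ψ).symm,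
    fp_isHomLift f _ (h := hφ)⟩
  show F.map φ ≫ y.obj.iso.hom = e.hom ≫ G.map ψ
  simp [e]

theorem fp_isFibered (h𝒳 : 𝒳.p.IsFibered) (h𝒴 : 𝒴.p.IsFibered)
    (hF : ∀ {R S : C} (f : R ⟶ S) {a b : 𝒳.obj} (φ : a ⟶ b), 𝒳.p.IsStronglyCartesian f φ →
      𝒮.p.IsStronglyCartesian f (F.map φ))
    (hG : ∀ {R S : C} (f : R ⟶ S) {a b : 𝒴.obj} (φ : a ⟶ b), 𝒴.p.IsStronglyCartesian f φ →
      𝒮.p.IsStronglyCartesian f (G.map φ)) :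
    (FibCat.fp F G).p.IsFibered := by
  refine IsFibered.of_exists_isStronglyCartesian fun y V f => ?_
  obtain ⟨a, φ, hφ⟩ := IsPreFibered.exists_isCartesian 𝒳.p (a := y.obj.fst) rfl f
  obtain ⟨b, ψ, hψ⟩ := IsPreFibered.exists_isCartesian 𝒴.p (a := y.obj.snd)
    (snd_proj y) f
  have h₁ : 𝒳.p.IsStronglyCartesian f φ := inferInstance
  have h₂ : 𝒴.p.IsStronglyCartesian f ψ := inferInstance
  obtain ⟨x, χ, e₁, e₂, hχ₁, hχ₂, hχ⟩ := fp_exists_lift y f φ ψ (hF f φ h₁) (hG f ψ h₂)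
  obtain ⟨rfl, e₃⟩ := lift_to hχ
  simp only [eqToHom_refl, Category.id_comp] at e₃
  subst e₃
  subst e₁ e₂
  simp only [eqToHom_refl, Category.id_comp] at hχ₁ hχ₂
  subst hχ₁ hχ₂
  exact ⟨x, χ, fp_isSC χ h₁ h₂ (hG _ _ h₂)⟩

theorem fp_isFibGrpd (h𝒳 : FibCat.IsFibGrpd 𝒳.p) (h𝒴 : FibCat.IsFibGrpd 𝒴.p) (h𝒮 : FibCat.IsFibGrpd 𝒮.p) :
    FibCat.IsFibGrpd (FibCat.fp F G).p := by
  refine ⟨fun {y V} f => ?_, fun {x y} φ => ?_⟩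
  · obtain ⟨a, φ, hφ⟩ := h𝒳.exists_lift (x := y.obj.fst) f
    obtain ⟨b, ψ, hψ⟩ := exists_lift_of_eq h𝒴 (x := y.obj.snd)
      (snd_proj y) f
    obtain ⟨x, χ, _, _, _, _, hχ⟩ := fp_exists_lift y f φ ψ (isSC f _) (isSC f _)
    exact ⟨x, χ, hχ⟩
  · have := preservesHomLift_snd φ
    exact fp_isSC φ (h𝒳.isStronglyCartesian _) (isSC _ _) (isSC _ _)

end Groth.Agent.FibBase
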