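import Groth.Prelude.Def_FibCat2

/-!
# Basic facts about categories over a base category
-/

set_option backward.isDefEq.respectTransparency false
set_option backward.isDefEq.respectTransparency.types false

universe v₄ u₄ v₃ u₃ v₂ u₂ v u

open CategoryTheory CategoryTheory.Functor

namespace Groth.Agent.FibBase

section Plain

variable {C : Type u} [Category.{v} C] {X : Type u₂} [Category.{v₂} X] {p : X ⥤ C}

/-- In a category fibred in groupoids every morphism is strongly cartesian over anything it lifts. -/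
lemma isSC [hp : FibCat.IsFibGrpd p] {R S : C} (f : R ⟶ S) {a b : X} (φ : a ⟶ b) [p.IsHomLift f φ] :
    p.IsStronglyCartesian f φ := by
  subst_hom_lift p f φ
  exact hp.isStronglyCartesian φ

lemma exists_lift_of_eq (hp : FibCat.IsFibGrpd p) {x : X} {V S : C} (hx : p.obj x = S) (f : V ⟶ S) :
    ∃ (y : X) (φ : y ⟶ x), p.IsHomLift f φ := by
  subst hx; exact hp.exists_lift f

lemma isFibered_of_isFibGrpd (hp : FibCat.IsFibGrpd p) : p.IsFibered := by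
  refine IsFibered.of_exists_isStronglyCartesian fun a R f => ?_
  obtain ⟨b, φ, hφ⟩ := hp.exists_lift f
  exact ⟨b, φ, isSC f φ⟩

lemma isFibered_of_isFibSet (hp : FibCat.IsFibSet p) : p.IsFibered := isFibered_of_isFibGrpd hp.1

/-- In a category fibred in groupoids a morphism over an isomorphism is an isomorphism. -/
lemma isIso_of_lift [hp : FibCat.IsFibGrpd p] {R S : C} (f : R ⟶ S) [IsIso f] {a b : X} (φ : a ⟶ b)
    [p.IsHomLift f φ] : IsIso φ := by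
  have := isSC (p := p) f φ
  exact IsStronglyCartesian.isIso_of_base_isIso p f φ

lemma isHomLift_id_of_map_eq {a b : X} {S : C} (ha : p.obj a = S) (hb : p.obj b = S) {φ : a ⟶ b}
    (h : p.map φ = eqToHom (ha.trans hb.symm)) : p.IsHomLift (𝟙 S) φ := by
  refine IsHomLift.of_fac' p _ _ ha hb ?_
  simp [h]

lemma map_eq_of_isHomLift_id {a b : X} {S : C} {φ : a ⟶ b} (h : p.IsHomLift (𝟙 S) φ) :
    p.map φ = eqToHom ((IsHomLift.domain_eq p (𝟙 S) φ).trans (IsHomLift.codomain_eq p (𝟙 S) φ).symm) := by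
  simp [IsHomLift.fac' p (𝟙 S) φ]

lemma isHomLift_id_self {a : X} {φ : a ⟶ a} (h : p.map φ = 𝟙 (p.obj a)) :
    p.IsHomLift (𝟙 (p.obj a)) φ :=
  isHomLift_id_of_map_eq rfl rfl (by simpa using h)

/-- Change of the two (propositionally equal) endpoints of the base morphism. -/
lemma isHomLift_id_congr {a b : X} {S S' : C} (h : S = S') {φ : a ⟶ b} (hφ : p.IsHomLift (𝟙 S) φ) :
    p.IsHomLift (𝟙 S') φ := by subst h; exact hφ

lemma fiber_isIso [FibCat.IsFibGrpd p] {S : C} {a b : p.Fiber S} (φ : a ⟶ b) : IsIso φ := by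
  obtain ⟨φ, hφ⟩ := φ
  have : IsIso φ := isIso_of_lift (p := p) (𝟙 S) φ
  exact ⟨⟨⟨inv φ, IsHomLift.lift_id_inv_isIso p S φ⟩,
    Subtype.ext (IsIso.hom_inv_id φ), Subtype.ext (IsIso.inv_hom_id φ)⟩⟩

lemma fiber_isGroupoid (hp : FibCat.IsFibGrpd p) (S : C) : IsGroupoid (p.Fiber S) :=
  ⟨fun φ => fiber_isIso φ⟩

/-- An isomorphism of a fibre from an isomorphism lying over an identity. -/
@[simps]
def fiberIsoMk {S : C} {a b : p.Fiber S} (e : a.1 ≅ b.1) (h : p.IsHomLift (𝟙 S) e.hom) : a ≅ b where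
  hom := ⟨e.hom, h⟩
  inv := ⟨e.inv, IsHomLift.lift_id_inv p S e⟩
  hom_inv_id := Subtype.ext e.hom_inv_id
  inv_hom_id := Subtype.ext e.inv_hom_id

/-- The underlying isomorphism of an isomorphism of a fibre. -/
@[simps]
def ofFiberIso {S : C} {a b : p.Fiber S} (e : a ≅ b) : a.1 ≅ b.1 where
  hom := e.hom.1
  inv := e.inv.1
  hom_inv_id := congrArg Subtype.val e.hom_inv_id
  inv_hom_id := congrArg Subtype.val e.inv_hom_id

lemma ofFiberIso_lift {S : C} {a b : p.Fiber S} (e : a ≅ b) : p.IsHomLift (𝟙 S) (ofFiberIso e).hom :=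
  e.hom.2

/-- Two lifts of the same morphism with the same target are isomorphic in the fibre. -/
lemma exists_iso_of_lifts [hp : FibCat.IsFibGrpd p] {R S : C} (f : R ⟶ S) {a a' b : X} (φ : a ⟶ b)
    (φ' : a' ⟶ b) [p.IsHomLift f φ] [p.IsHomLift f φ'] :
    ∃ e : a' ≅ a, p.IsHomLift (𝟙 R) e.hom ∧ e.hom ≫ φ = φ' := by
  have := isSC (p := p) f φ
  have := isSC (p := p) f φ'
  exact ⟨IsCartesian.domainUniqueUpToIso p f φ φ', inferInstance, by simp⟩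

end Plain

section OverBase

variable {C : Type u} [Category.{v} C] {𝒳 : BasedCategory.{v₂, u₂} C} {𝒴 : BasedCategory.{v₃, u₃} C}
  {𝒵 : BasedCategory.{v₄, u₄} C}

/-- A based natural isomorphism gives isomorphisms over identities. -/
@[simps!]
def isoApp {F G : 𝒳 ⥤ᵇ 𝒴} (e : F ≅ G) (a : 𝒳.obj) : F.obj a ≅ G.obj a :=
  ((BasedNatTrans.forgetful _ _).mapIso e).app a

lemma isoApp_lift {F G : 𝒳 ⥤ᵇ 𝒴} (e : F ≅ G) {a : 𝒳.obj} {S : C} (h : 𝒳.p.obj a = S) :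
    𝒴.p.IsHomLift (𝟙 S) (isoApp e a).hom :=
  BasedNatTrans.isHomLift e.hom h

lemma isoApp_inv_lift {F G : 𝒳 ⥤ᵇ 𝒴} (e : F ≅ G) {a : 𝒳.obj} {S : C} (h : 𝒳.p.obj a = S) :
    𝒴.p.IsHomLift (𝟙 S) (isoApp e a).inv :=
  BasedNatTrans.isHomLift e.inv h

lemma natural {F G : 𝒳 ⥤ᵇ 𝒴} (e : F ≅ G) {a b : 𝒳.obj} (φ : a ⟶ b) :
    F.map φ ≫ (isoApp e b).hom = (isoApp e a).hom ≫ G.map φ :=
  e.hom.toNatTrans.naturality φ

/-- Whiskering a based isomorphism on the left. -/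
def whiskerLeftIso (F : 𝒳 ⥤ᵇ 𝒴) {G H : 𝒴 ⥤ᵇ 𝒵} (e : G ≅ H) :
    BasedFunctor.comp F G ≅ BasedFunctor.comp F H :=
  BasedNatIso.mkNatIso (Functor.isoWhiskerLeft F.toFunctor ((BasedNatTrans.forgetful _ _).mapIso e))
    (fun a => BasedNatTrans.isHomLift e.hom (F.w_obj a))

/-- Whiskering a based isomorphism on the right. -/
def whiskerRightIso {F G : 𝒳 ⥤ᵇ 𝒴} (e : F ≅ G) (H : 𝒴 ⥤ᵇ 𝒵) :
    BasedFunctor.comp F H ≅ BasedFunctor.comp G H :=
  BasedNatIso.mkNatIso (Functor.isoWhiskerRight ((BasedNatTrans.forgetful _ _).mapIso e) H.toFunctor)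
    (fun a => by
      have := BasedNatTrans.isHomLift e.hom (a := a) rfl
      exact BasedFunctor.preserves_isHomLift H (𝟙 (𝒳.p.obj a)) (e.hom.toNatTrans.app a))

section Equiv

variable {F : 𝒳 ⥤ᵇ 𝒴}

lemma isEquivalence_of_isEquivOver (h : FibCat.IsEquivOver F) : F.toFunctor.IsEquivalence := by
  obtain ⟨G, ⟨e₁⟩, ⟨e₂⟩⟩ := h
  exact (CategoryTheory.Equivalence.mk F.toFunctor G.toFunctor
    ((BasedNatTrans.forgetful _ _).mapIso e₁).symm
    ((BasedNatTrans.forgetful _ _).mapIso e₂)).isEquivalence_functor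

lemma full_of_isEquivOver (h : FibCat.IsEquivOver F) : F.toFunctor.Full :=
  have := isEquivalence_of_isEquivOver h; inferInstance

lemma faithful_of_isEquivOver (h : FibCat.IsEquivOver F) : F.toFunctor.Faithful :=
  have := isEquivalence_of_isEquivOver h; inferInstance

lemma exists_iso_over_of_isEquivOver (h : FibCat.IsEquivOver F) {S : C} (η : 𝒴.obj)
    (hη : 𝒴.p.obj η = S) :
    ∃ (ξ : 𝒳.obj) (e : F.obj ξ ≅ η), 𝒴.p.IsHomLift (𝟙 S) e.hom := by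
  obtain ⟨G, -, ⟨e₂⟩⟩ := h
  exact ⟨G.obj η, isoApp e₂ η, isoApp_lift e₂ hη⟩

variable (F)

/-- Fully faithful and essentially surjective over the base implies equivalence over the base. -/
theorem isEquivOver_of_exists_iso (hfull : F.toFunctor.Full) (hfaith : F.toFunctor.Faithful)
    (hes : ∀ η : 𝒴.obj, ∃ (ξ : 𝒳.obj) (e : F.obj ξ ≅ η), 𝒴.p.IsHomLift (𝟙 (𝒴.p.obj η)) e.hom) :
    FibCat.IsEquivOver F := by
  choose ξ e he using hes
  have hξ : ∀ η, 𝒳.p.obj (ξ η) = 𝒴.p.obj η := fun η =>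
    (F.w_obj (ξ η)).symm.trans (IsHomLift.domain_eq 𝒴.p (𝟙 (𝒴.p.obj η)) (e η).hom)
  let G₀ : 𝒴.obj ⥤ 𝒳.obj :=
    { obj := ξ
      map := fun {a b} φ => F.toFunctor.preimage ((e a).hom ≫ φ ≫ (e b).inv)
      map_id := fun a => F.toFunctor.map_injective (by simp)
      map_comp := fun φ ψ => F.toFunctor.map_injective (by simp) }
  have hlift : ∀ {a b : 𝒴.obj} (φ : a ⟶ b), 𝒳.p.IsHomLift (𝒴.p.map φ) (G₀.map φ) := by
    intro a b φ
    rw [← F.isHomLift_iff]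
    have := he a
    have := he b
    have := IsHomLift.lift_id_inv 𝒴.p (𝒴.p.obj b) (e b)
    simpa [G₀] using (inferInstance : 𝒴.p.IsHomLift (𝒴.p.map φ) ((e a).hom ≫ φ ≫ (e b).inv))
  have hw : G₀ ⋙ 𝒳.p = 𝒴.p := Functor.ext hξ (fun a b φ => by
    have := hlift φ
    simpa using IsHomLift.fac' 𝒳.p (𝒴.p.map φ) (G₀.map φ))
  let G : 𝒴 ⥤ᵇ 𝒳 := { toFunctor := G₀, w := hw }
  refine ⟨G, ⟨BasedNatIso.mkNatIso
      (NatIso.ofComponents (fun a => F.toFunctor.preimageIso (e (F.obj a))) ?_) ?_⟩,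
    ⟨BasedNatIso.mkNatIso (NatIso.ofComponents e ?_) ?_⟩⟩
  · intro a b φ
    refine F.toFunctor.map_injective ?_
    show F.toFunctor.map (F.toFunctor.preimage ((e _).hom ≫ F.map φ ≫ (e _).inv) ≫ _) =
      F.toFunctor.map ((F.toFunctor.preimageIso (e _)).hom ≫ φ)
    simp
  · intro a
    show 𝒳.p.IsHomLift (𝟙 (𝒳.p.obj a)) (F.toFunctor.preimageIso (e (F.obj a))).hom
    rw [← F.isHomLift_iff]
    simpa using isHomLift_id_congr (F.w_obj a) (he (F.obj a))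
  · intro a b φ
    show F.toFunctor.map (F.toFunctor.preimage ((e a).hom ≫ φ ≫ (e b).inv)) ≫ (e b).hom = (e a).hom ≫ φ
    simp
  · exact fun a => he a

theorem isEquivOver_iff : FibCat.IsEquivOver F ↔
    (F.toFunctor.Full ∧ F.toFunctor.Faithful) ∧
      ∀ η : 𝒴.obj, ∃ (ξ : 𝒳.obj) (e : F.obj ξ ≅ η), 𝒴.p.IsHomLift (𝟙 (𝒴.p.obj η)) e.hom :=
  ⟨fun h => ⟨⟨full_of_isEquivOver h, faithful_of_isEquivOver h⟩,
      fun η => exists_iso_over_of_isEquivOver h η rfl⟩,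
    fun h => isEquivOver_of_exists_iso F h.1.1 h.1.2 h.2⟩

lemma isEquivOver_id : FibCat.IsEquivOver (BasedFunctor.id 𝒳) :=
  ⟨BasedFunctor.id 𝒳, ⟨Iso.refl _⟩, ⟨Iso.refl _⟩⟩

variable {F}

lemma isEquivOver_comp {G : 𝒴 ⥤ᵇ 𝒵} (hF : FibCat.IsEquivOver F) (hG : FibCat.IsEquivOver G) :
    FibCat.IsEquivOver (BasedFunctor.comp F G) := by
  obtain ⟨F', ⟨a₁⟩, ⟨a₂⟩⟩ := hF
  obtain ⟨G', ⟨b₁⟩, ⟨b₂⟩⟩ := hG
  exact ⟨BasedFunctor.comp G' F',
    ⟨whiskerLeftIso F (whiskerRightIso b₁ F') ≪≫ a₁⟩,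
    ⟨whiskerLeftIso G' (whiskerRightIso a₂ G) ≪≫ b₂⟩⟩

lemma isEquivOver_of_iso {F' : 𝒳 ⥤ᵇ 𝒴} (e : F ≅ F') (h : FibCat.IsEquivOver F) :
    FibCat.IsEquivOver F' := by
  obtain ⟨G, ⟨a₁⟩, ⟨a₂⟩⟩ := h
  exact ⟨G, ⟨(whiskerRightIso e G).symm ≪≫ a₁⟩, ⟨(whiskerLeftIso G e).symm ≪≫ a₂⟩⟩

end Equiv

end OverBase

end Groth.Agent.FibBase
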