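import Groth.Agent.FibBase.Basic
import Groth.Prelude.Def_W4stkcategoriessitesFib

/-!
# The functor between 2-fibre products induced by a map of cospans
-/

set_option backward.isDefEq.respectTransparency false
set_option backward.isDefEq.respectTransparency.types false

universe v u

open CategoryTheory CategoryTheory.Functor CategoryTheory.Limits

namespace Groth.Agent.FibBase

variable {X Y Z A B C : Type u} [Category.{v} X] [Category.{v} Y] [Category.{v} Z] [Category.{v} A]
  [Category.{v} B] [Category.{v} C] {H : X ⥤ Z} {I : Y ⥤ Z} {F : A ⥤ C} {G : B ⥤ C} (ψ : CatCospanTransform H I F G)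

lemma pbMap_iso (x : CategoricalPullback H I) :
    ((FibCat.categoricalPullbackMap ψ).obj x).iso.hom =
      ψ.squareLeft.iso.inv.app x.fst ≫ ψ.base.map x.iso.hom ≫ ψ.squareRight.iso.hom.app x.snd := by
  simp [FibCat.categoricalPullbackMap]
  rfl

lemma pbMap_faithful [ψ.left.Faithful] [ψ.right.Faithful] : (FibCat.categoricalPullbackMap ψ).Faithful :=
  ⟨fun h => CategoricalPullback.hom_ext (ψ.left.map_injective (congrArg (fun t => t.fst) h))
    (ψ.right.map_injective (congrArg (fun t => t.snd) h))⟩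

lemma pbMap_full [ψ.left.Full] [ψ.right.Full] [ψ.base.Faithful] : (FibCat.categoricalPullbackMap ψ).Full := by
  refine ⟨fun {x y} t => ?_⟩
  obtain ⟨a, ha⟩ := ψ.left.map_surjective (X := x.fst) (Y := y.fst) t.fst
  obtain ⟨b, hb⟩ := ψ.right.map_surjective (X := x.snd) (Y := y.snd) t.snd
  refine ⟨⟨a, b, ?_⟩, CategoricalPullback.hom_ext ha hb⟩
  have w := t.w
  rw [pbMap_iso, pbMap_iso, ← ha, ← hb] at w
  refine ψ.base.map_injective ?_
  simp only [Functor.map_comp]
  rw [← cancel_epi (ψ.squareLeft.iso.inv.app x.fst), ← cancel_mono (ψ.squareRight.iso.hom.app y.snd)]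
  have n₁ := ψ.squareLeft.iso.inv.naturality a
  have n₂ := ψ.squareRight.iso.hom.naturality b
  simp only [Functor.comp_map] at n₁ n₂
  simp only [Category.assoc] at w ⊢
  rw [← reassoc_of% n₁, n₂]
  exact w

lemma pbMap_essSurj [ψ.left.EssSurj] [ψ.right.EssSurj] [ψ.base.Full] [ψ.base.Faithful] :
    (FibCat.categoricalPullbackMap ψ).EssSurj := by
  refine ⟨fun t => ?_⟩
  let x := ψ.left.objPreimage t.fst
  let y := ψ.right.objPreimage t.snd
  let e := ψ.left.objObjPreimageIso t.fst
  let e' := ψ.right.objObjPreimageIso t.snd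
  let i : ψ.base.obj (H.obj x) ≅ ψ.base.obj (I.obj y) :=
    ψ.squareLeft.iso.app x ≪≫ F.mapIso e ≪≫ t.iso ≪≫ (G.mapIso e').symm ≪≫ (ψ.squareRight.iso.app y).symm
  refine ⟨⟨x, y, ψ.base.preimageIso i⟩, ⟨CategoricalPullback.mkIso e e' ?_⟩⟩
  rw [pbMap_iso]
  simp [i, e, e', x, y]

lemma pbMap_isEquivalence [ψ.left.IsEquivalence] [ψ.right.IsEquivalence] [ψ.base.Full] [ψ.base.Faithful] :
    (FibCat.categoricalPullbackMap ψ).IsEquivalence where
  faithful := pbMap_faithful ψ
  full := pbMap_full ψ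
  essSurj := pbMap_essSurj ψ

end Groth.Agent.FibBase
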