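import Groth.Agent.FibBase.Comp
import Groth.Prelude.Def_W4stkcategoriessitesFib

/-!
# The 2-Yoneda lemma for slices
-/

set_option backward.isDefEq.respectTransparency false
set_option backward.isDefEq.respectTransparency.types false

universe v₂ u₂ v u

open CategoryTheory CategoryTheory.Functor

namespace Groth.Agent.FibBase

variable {C : Type u} [Category.{v} C] {𝒳 : BasedCategory.{v₂, u₂} C} {U : C}

/-- The map of an object of `C/U` to the terminal one. -/
def toId (V : Over U) : V ⟶ Over.mk (𝟙 U) := Over.homMk V.hom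

lemma overForget_isSC {V W : Over U} (g : V ⟶ W) : (Over.forget U).IsStronglyCartesian g.left g :=
  (isFibSet_overForget U).1.isStronglyCartesian g

lemma overMap_isSC {G : FibCat.overCat U ⥤ᵇ 𝒳} (hG : FibCat.PreservesStronglyCartesian G) {V W : Over U}
    (g : V ⟶ W) : 𝒳.p.IsStronglyCartesian g.left (G.map g) := hG _ g (overForget_isSC g)

lemma overMap_isHomLift (G : FibCat.overCat U ⥤ᵇ 𝒳) {V W : Over U} (g : V ⟶ W) :
    𝒳.p.IsHomLift g.left (G.map g) :=
  haveI : (FibCat.overCat U).p.IsHomLift g.left g := IsHomLift.map (Over.forget U) g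
  G.preserves_isHomLift g.left g

lemma evalAtId_hom_ext {G H : FibCat.overCat U ⥤ᵇ 𝒳} (hH : FibCat.PreservesStronglyCartesian H)
    {α β : G ⟶ H} (h : α.toNatTrans.app (Over.mk (𝟙 U)) = β.toNatTrans.app (Over.mk (𝟙 U))) : α = β := by
  refine BasedNatTrans.ext α β (CategoryTheory.NatTrans.ext (funext fun V => ?_))
  have := overMap_isSC hH (toId V)
  have hα : 𝒳.p.IsHomLift (𝟙 V.left) (α.toNatTrans.app V) := BasedNatTrans.isHomLift α rfl
  have hβ : 𝒳.p.IsHomLift (𝟙 V.left) (β.toNatTrans.app V) := BasedNatTrans.isHomLift β rfl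
  refine IsStronglyCartesian.ext 𝒳.p (toId V).left (H.map (toId V)) (𝟙 V.left) ?_
  rw [← α.toNatTrans.naturality (toId V), ← β.toNatTrans.naturality (toId V), h]

/-- Extending a vertical morphism at the identity to a 2-morphism. -/
noncomputable def homOfEval {G H : FibCat.overCat U ⥤ᵇ 𝒳} (hH : FibCat.PreservesStronglyCartesian H)
    (t : G.obj (Over.mk (𝟙 U)) ⟶ H.obj (Over.mk (𝟙 U))) (ht : 𝒳.p.IsHomLift (𝟙 U) t) : G ⟶ H :=
  haveI hsc := fun V : Over U => overMap_isSC hH (toId V)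
  haveI hl := fun V : Over U => overMap_isHomLift G (toId V)
  haveI hl' : ∀ V : Over U, 𝒳.p.IsHomLift (toId V).left (G.map (toId V) ≫ t) := fun V =>
    IsHomLift.comp_lift_id_right' 𝒳.p (toId V).left (G.map (toId V)) U t
  { app := fun V => IsCartesian.map 𝒳.p (toId V).left (H.map (toId V)) (G.map (toId V) ≫ t)
    naturality := fun V W g => by
      have := overMap_isHomLift G g
      have := overMap_isHomLift H g
      have : 𝒳.p.IsHomLift g.left
          (G.map g ≫ IsCartesian.map 𝒳.p (toId W).left (H.map (toId W)) (G.map (toId W) ≫ t)) :=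
        IsHomLift.comp_lift_id_right' 𝒳.p g.left _ W.left _
      have : 𝒳.p.IsHomLift g.left
          (IsCartesian.map 𝒳.p (toId V).left (H.map (toId V)) (G.map (toId V) ≫ t) ≫ H.map g) :=
        IsHomLift.comp_lift_id_left' 𝒳.p V.left _ g.left _
      refine IsStronglyCartesian.ext 𝒳.p (toId W).left (H.map (toId W)) g.left ?_
      have e : g ≫ toId W = toId V := Over.OverMorphism.ext (Over.w g)
      rw [Category.assoc, IsCartesian.fac, Category.assoc, ← H.toFunctor.map_comp, e, IsCartesian.fac,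
        ← Category.assoc, ← G.toFunctor.map_comp, e]
    isHomLift' := fun V => inferInstanceAs (𝒳.p.IsHomLift (𝟙 V.left) _) }

lemma homOfEval_app {G H : FibCat.overCat U ⥤ᵇ 𝒳} (hH : FibCat.PreservesStronglyCartesian H)
    (t : G.obj (Over.mk (𝟙 U)) ⟶ H.obj (Over.mk (𝟙 U))) (ht : 𝒳.p.IsHomLift (𝟙 U) t) :
    (homOfEval hH t ht).toNatTrans.app (Over.mk (𝟙 U)) = t := by
  have h1 : toId (Over.mk (𝟙 U)) = 𝟙 _ := rfl
  have := overMap_isSC hH (toId (Over.mk (𝟙 U)))
  have := overMap_isHomLift G (toId (Over.mk (𝟙 U)))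
  have : 𝒳.p.IsHomLift (toId (Over.mk (𝟙 U))).left (G.map (toId (Over.mk (𝟙 U))) ≫ t) :=
    IsHomLift.comp_lift_id_right' 𝒳.p _ _ U t
  have : 𝒳.p.IsHomLift (𝟙 (Over.mk (𝟙 U)).left) t := ht
  refine (IsCartesian.map_uniq 𝒳.p (toId (Over.mk (𝟙 U))).left (H.map (toId (Over.mk (𝟙 U))))
    (G.map (toId (Over.mk (𝟙 U))) ≫ t) (ψ := t) ?_).symm
  simp [h1]

section OfObj

variable [𝒳.p.IsFibered] (x : 𝒳.p.Fiber U)

/-- The functor `C/U ⥤ 𝒳` over `C` given by chosen pullbacks of an object over `U`. -/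
noncomputable def ofObj : FibCat.overCat U ⥤ᵇ 𝒳 where
  toFunctor :=
    { obj := fun V => IsPreFibered.pullbackObj x.2 V.hom
      map := fun {V W} g => IsStronglyCartesian.map 𝒳.p W.hom (IsPreFibered.pullbackMap x.2 W.hom)
        (g := g.left) (f' := V.hom) (Over.w g).symm (IsPreFibered.pullbackMap x.2 V.hom)
      map_id := fun V => by
        have : 𝒳.p.IsHomLift (𝟙 V : V ⟶ V).left (𝟙 (IsPreFibered.pullbackObj x.2 V.hom)) :=
          IsHomLift.id (IsPreFibered.pullbackObj_proj x.2 V.hom)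
        refine (IsStronglyCartesian.map_uniq 𝒳.p V.hom (IsPreFibered.pullbackMap x.2 V.hom) (g := (𝟙 V : V ⟶ V).left) _
          _ _ (Category.id_comp _)).symm
      map_comp := fun {V W W'} g g' => by
        symm
        have : 𝒳.p.IsHomLift (g ≫ g').left
            (IsStronglyCartesian.map 𝒳.p W.hom (IsPreFibered.pullbackMap x.2 W.hom) (g := g.left) (f' := V.hom)
                (Over.w g).symm (IsPreFibered.pullbackMap x.2 V.hom) ≫
              IsStronglyCartesian.map 𝒳.p W'.hom (IsPreFibered.pullbackMap x.2 W'.hom) (g := g'.left) (f' := W.hom)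
                (Over.w g').symm (IsPreFibered.pullbackMap x.2 W.hom)) :=
          IsHomLift.comp 𝒳.p g.left g'.left _ _
        refine IsStronglyCartesian.map_uniq 𝒳.p W'.hom (IsPreFibered.pullbackMap x.2 W'.hom)
          (g := (g ≫ g').left) _ _ _ ?_
        simp }
  w := Functor.ext (fun V => IsPreFibered.pullbackObj_proj x.2 V.hom) (fun V W g => IsHomLift.fac' 𝒳.p g.left _)

lemma ofObj_preserves : FibCat.PreservesStronglyCartesian (ofObj x) := by
  intro R S f V W g hg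
  have := hg.toIsHomLift
  subst_hom_lift (FibCat.overCat U).p f g
  change 𝒳.p.IsStronglyCartesian g.left
    (IsStronglyCartesian.map 𝒳.p W.hom (IsPreFibered.pullbackMap x.2 W.hom) (g := g.left) (f' := V.hom)
      (Over.w g).symm (IsPreFibered.pullbackMap x.2 V.hom))
  have : 𝒳.p.IsStronglyCartesian (g.left ≫ W.hom)
      (IsStronglyCartesian.map 𝒳.p W.hom (IsPreFibered.pullbackMap x.2 W.hom) (g := g.left) (f' := V.hom)
        (Over.w g).symm (IsPreFibered.pullbackMap x.2 V.hom) ≫ IsPreFibered.pullbackMap x.2 W.hom) := by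
    rw [IsStronglyCartesian.fac, Over.w g]; infer_instance
  exact IsStronglyCartesian.of_comp (p := 𝒳.p) (ψ := IsPreFibered.pullbackMap x.2 W.hom) (g := W.hom)

lemma ofObj_iso : Nonempty ((FibCat.evalAtId 𝒳 U).obj (ofObj x) ≅ x) := by
  have : IsIso (Over.mk (𝟙 U)).hom := inferInstanceAs (IsIso (𝟙 U))
  have := IsStronglyCartesian.isIso_of_base_isIso 𝒳.p (Over.mk (𝟙 U)).hom
    (IsPreFibered.pullbackMap x.2 (Over.mk (𝟙 U)).hom)
  exact ⟨{
    hom := ⟨IsPreFibered.pullbackMap x.2 (Over.mk (𝟙 U)).hom,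
      inferInstanceAs (𝒳.p.IsHomLift (Over.mk (𝟙 U)).hom _)⟩
    inv := ⟨inv (IsPreFibered.pullbackMap x.2 (Over.mk (𝟙 U)).hom), by
      have : 𝒳.p.IsHomLift (𝟙 U) (IsPreFibered.pullbackMap x.2 (Over.mk (𝟙 U)).hom) :=
        inferInstanceAs (𝒳.p.IsHomLift (Over.mk (𝟙 U)).hom _)
      exact IsHomLift.lift_id_inv_isIso 𝒳.p U _⟩
    hom_inv_id := Subtype.ext (IsIso.hom_inv_id _)
    inv_hom_id := Subtype.ext (IsIso.inv_hom_id _) }⟩

end OfObj

theorem evalAtId_restrict_isEquivalence [𝒳.p.IsFibered] (U : C) :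
    ((ObjectProperty.ι (FibCat.PreservesStronglyCartesian (𝒳 := FibCat.overCat U) (𝒴 := 𝒳))) ⋙
      FibCat.evalAtId 𝒳 U).IsEquivalence where
  faithful := ⟨fun {G H} α β h =>
    ObjectProperty.hom_ext _ (evalAtId_hom_ext H.property (congrArg Subtype.val h))⟩
  full := ⟨fun {G H} t => ⟨ObjectProperty.homMk (homOfEval H.property t.1 t.2),
    Subtype.ext (homOfEval_app H.property t.1 t.2)⟩⟩
  essSurj := ⟨fun x => ⟨⟨ofObj x, ofObj_preserves x⟩, ofObj_iso x⟩⟩

lemma preserves_of_isFibGrpd (h𝒳 : FibCat.IsFibGrpd 𝒳.p) (G : FibCat.overCat U ⥤ᵇ 𝒳) :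
    FibCat.PreservesStronglyCartesian G :=
  fun _ _ f _ _ φ h => by have := h.toIsHomLift; exact isSC f (G.map φ)

theorem evalAtId_isEquivalence (h𝒳 : FibCat.IsFibGrpd 𝒳.p) (U : C) :
    (FibCat.evalAtId 𝒳 U).IsEquivalence :=
  have := isFibered_of_isFibGrpd h𝒳
  { faithful := ⟨fun {_ H} _ _ h => evalAtId_hom_ext (preserves_of_isFibGrpd h𝒳 H) (congrArg Subtype.val h)⟩
    full := ⟨fun {_ H} t => ⟨homOfEval (preserves_of_isFibGrpd h𝒳 H) t.1 t.2,
      Subtype.ext (homOfEval_app (preserves_of_isFibGrpd h𝒳 H) t.1 t.2)⟩⟩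
    essSurj := ⟨fun x => ⟨ofObj x, ofObj_iso x⟩⟩ }

end Groth.Agent.FibBase
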