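import Groth.Agent.FibBase.Inertia
import Groth.Agent.FibBase.FpMaps

/-!
# Inertia as the self fibre product of the diagonal
-/

set_option autoImplicit false
set_option backward.isDefEq.respectTransparency false
set_option backward.isDefEq.respectTransparency.types false

universe v₃ u₃ v₂ u₂ v u

open CategoryTheory CategoryTheory.Functor CategoryTheory.Limits

namespace Groth.Agent.FibBase

variable {C : Type u} [Category.{v} C] {𝒳 : BasedCategory.{v₂, u₂} C} {𝒴 : BasedCategory.{v₃, u₃} C}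
  (F : 𝒳 ⥤ᵇ 𝒴)

/-- The 2-cell between the two forgetful composites to the fibre product. -/
def inertiaCell : BasedFunctor.comp (FibCat.inertiaToBase F) (FibCat.diag F) ≅
    BasedFunctor.comp (FibCat.inertiaToBase F) (FibCat.diag F) :=
  BasedNatIso.mkNatIso
    (NatIso.ofComponents (fun x => fpIsoMk (F := F) (G := F) x.aut (Iso.refl x.pt) (by
        show F.map x.aut.hom ≫ 𝟙 _ = 𝟙 _ ≫ F.map (𝟙 x.pt)
        rw [x.map_aut, F.map_id])) fun {x y} φ => by
      apply ObjectProperty.hom_ext
      apply CategoricalPullback.hom_ext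
      · exact φ.comm.symm
      · show φ.hom ≫ 𝟙 _ = 𝟙 _ ≫ φ.hom
        simp)
    fun x => by
      haveI := aut_isHomLift x
      exact fp_isHomLift (F := F) (G := F) (𝟙 _) _ (h := aut_isHomLift x)

/-- The comparison functor from the inertia. -/
def inertiaToFp : FibCat.inertia F ⥤ᵇ FibCat.fp (FibCat.diag F) (FibCat.diag F) :=
  FibCat.fpLift (FibCat.inertiaToBase F) (FibCat.inertiaToBase F) (inertiaCell F)

theorem inertiaToFp_isEquivOver : FibCat.IsEquivOver (inertiaToFp F) := by
  refine isEquivOver_of_exists_iso _ ⟨fun {x y} t => ?_⟩ ⟨fun {x y} t t' h => ?_⟩ fun η => ?_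
  · have h := t.hom.w
    have h1 : t.hom.fst ≫ y.aut.hom = x.aut.hom ≫ t.hom.snd := congrArg (fun k => k.hom.fst) h
    have h2 : t.hom.fst = t.hom.snd := by
      have : t.hom.fst ≫ 𝟙 _ = 𝟙 _ ≫ t.hom.snd := congrArg (fun k => k.hom.snd) h
      exact (Category.comp_id _).symm.trans (this.trans (Category.id_comp _))
    refine ⟨⟨t.hom.fst, (h1.trans (congrArg (x.aut.hom ≫ ·) h2.symm)).symm⟩, ?_⟩
    apply ObjectProperty.hom_ext
    exact CategoricalPullback.hom_ext rfl h2
  · exact FibCat.InertiaObj.hom_ext (congrArg (fun k => k.hom.fst) h)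
  · let φ : η.obj.fst ≅ η.obj.snd :=
      { hom := η.obj.iso.hom.hom.fst
        inv := η.obj.iso.inv.hom.fst
        hom_inv_id := congrArg (fun k => k.hom.fst) η.obj.iso.hom_inv_id
        inv_hom_id := congrArg (fun k => k.hom.fst) η.obj.iso.inv_hom_id }
    let ψ : η.obj.fst ≅ η.obj.snd :=
      { hom := η.obj.iso.hom.hom.snd
        inv := η.obj.iso.inv.hom.snd
        hom_inv_id := congrArg (fun k => k.hom.snd) η.obj.iso.hom_inv_id
        inv_hom_id := congrArg (fun k => k.hom.snd) η.obj.iso.inv_hom_id }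
    have hw : F.map φ.hom = F.map ψ.hom := by
      have : F.map φ.hom ≫ 𝟙 _ = 𝟙 _ ≫ F.map ψ.hom := η.obj.iso.hom.hom.w
      exact (Category.comp_id _).symm.trans (this.trans (Category.id_comp _))
    let x : FibCat.InertiaObj F :=
      ⟨η.obj.fst, φ ≪≫ ψ.symm, by
        show F.map (φ.hom ≫ ψ.inv) = _
        rw [Functor.map_comp, hw, ← Functor.map_comp, ψ.hom_inv_id, Functor.map_id]⟩
    let e : (inertiaToFp F).obj x ≅ η := fpIsoMk (F := FibCat.diag F) (G := FibCat.diag F) (Iso.refl _) ψ (by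
      apply ObjectProperty.hom_ext
      apply CategoricalPullback.hom_ext
      · show 𝟙 _ ≫ φ.hom = (φ.hom ≫ ψ.inv) ≫ ψ.hom
        simp
      · show 𝟙 _ ≫ ψ.hom = 𝟙 _ ≫ ψ.hom
        rfl)
    refine ⟨x, e, ?_⟩
    exact fp_isHomLift (F := FibCat.diag F) (G := FibCat.diag F) (𝟙 _) _ (h := IsHomLift.id rfl)

end Groth.Agent.FibBase
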