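import Groth.Prelude.Def_FibClv
import Groth.Agent.FibBase.Basic
import Mathlib.CategoryTheory.Category.Cat
import Mathlib.CategoryTheory.Bicategory.Functor.LocallyDiscrete

/-!
# Split fibred categories and strict functors
-/

set_option autoImplicit false
set_option backward.isDefEq.respectTransparency false
set_option backward.isDefEq.respectTransparency.types false

universe v₁ v₂ v₃ u₁ u₂ u₃

open CategoryTheory CategoryTheory.Functor Opposite

namespace Groth.Agent.FibBase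

open Pseudofunctor.CoGrothendieck

variable {𝒮 : Type u₁} [Category.{v₁} 𝒮]

section Strict

variable (F : 𝒮ᵒᵖ ⥤ Cat.{v₂, u₂})

/-- The category of pairs of a strict functor. -/
abbrev Tot := Pseudofunctor.CoGrothendieck F.toPseudofunctor'

variable {F}

/-- Morphisms whose fibre component is an identity. -/
def IsPure {x y : Tot F} (m : x ⟶ y) : Prop := ∃ h, m.fiber = eqToHom h

lemma isPure_eqToHom {x y : Tot F} (h : x = y) : IsPure (eqToHom h) := by
  subst h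
  refine ⟨?_, ?_⟩
  · show x.fiber = (F.map (𝟙 x.base).op).toFunctor.obj x.fiber
    rw [op_id, F.map_id]; rfl
  · simp [Functor.toPseudofunctor'_mapId, Cat.Hom₂.eqToHom_toNatTrans, eqToHom_app]

lemma isPure_comp {x y z : Tot F} {m : x ⟶ y} {n : y ⟶ z} (hm : IsPure m) (hn : IsPure n) : IsPure (m ≫ n) := by
  obtain ⟨e, hm⟩ := hm
  obtain ⟨e', hn⟩ := hn
  refine ⟨?_, ?_⟩
  · show x.fiber = (F.map (m.base ≫ n.base).op).toFunctor.obj z.fiber
    rw [op_comp, F.map_comp]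
    exact e.trans (congrArg (F.map m.base.op).toFunctor.obj e')
  · simp [hm, hn, Functor.toPseudofunctor'_mapComp, eqToHom_map, eqToHom_app]

lemma isPure_ext {x y : Tot F} {m n : x ⟶ y} (hm : IsPure m) (hn : IsPure n) (h : m.base = n.base) : m = n := by
  obtain ⟨e, hm⟩ := hm
  obtain ⟨e', hn⟩ := hn
  refine Pseudofunctor.CoGrothendieck.Hom.ext m n h ?_
  rw [hm, hn, eqToHom_trans]

variable (F) in
/-- The canonical cleavage of a strict functor is a splitting. -/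
theorem ofCoGrothendieck_isSplitting :
    (FibCat.Cleavage.ofCoGrothendieck F.toPseudofunctor').IsSplitting := by
  refine ⟨fun S a ha => ?_, fun S T U f g a ha => ?_⟩
  · subst ha
    have h : domainCartesianLift a.fiber (𝟙 a.base ≫ eqToHom rfl) = a := by
      show (⟨a.base, (F.map (𝟙 a.base ≫ 𝟙 a.base).op).toFunctor.obj a.fiber⟩ : Tot F) = a
      rw [Category.id_comp, op_id, F.map_id]
      rfl
    exact ⟨h, isPure_ext ⟨rfl, rfl⟩ (isPure_eqToHom h) (by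
      show 𝟙 a.base ≫ 𝟙 a.base = (eqToHom h).base
      rw [Category.id_comp]
      exact (eqToHom_map (forget F.toPseudofunctor') h).symm)⟩
  · subst ha
    have h : domainCartesianLift (domainCartesianLift a.fiber (f ≫ eqToHom rfl)).fiber (g ≫ eqToHom rfl) =
        domainCartesianLift a.fiber ((g ≫ f) ≫ eqToHom rfl) := by
      show (⟨U, (F.map (g ≫ 𝟙 T).op).toFunctor.obj ((F.map (f ≫ 𝟙 _).op).toFunctor.obj a.fiber)⟩ : Tot F) =
        ⟨U, (F.map ((g ≫ f) ≫ 𝟙 _).op).toFunctor.obj a.fiber⟩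
      simp only [Category.comp_id, op_comp, F.map_comp]
      rfl
    refine ⟨h, isPure_ext (isPure_comp ⟨rfl, rfl⟩ ⟨rfl, rfl⟩) (isPure_comp (isPure_eqToHom h) ⟨rfl, rfl⟩) ?_⟩
    show (g ≫ 𝟙 T) ≫ (f ≫ 𝟙 _) = (eqToHom h).base ≫ (g ≫ f) ≫ 𝟙 _
    rw [show (eqToHom h).base = 𝟙 U from eqToHom_map (forget F.toPseudofunctor') h]
    simp

end Strict

section Transfer

variable {𝒳 : Type u₂} [Category.{v₂} 𝒳] {p : 𝒳 ⥤ 𝒮} {𝒴 : Type u₃} [Category.{v₃} 𝒴] {q : 𝒴 ⥤ 𝒮}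

lemma cleavage_congr (L : FibCat.Cleavage q) {R S : 𝒮} {x x' : 𝒴} (e : x = x') (hx : q.obj x = S)
    (hx' : q.obj x' = S) (f : R ⟶ S) :
    ∃ h : L.obj hx f = L.obj hx' f, L.lift hx f ≫ eqToHom e = eqToHom h ≫ L.lift hx' f := by
  subst e; exact ⟨rfl, by simp⟩

theorem exists_isSplitting_of_iso (L : FibCat.Cleavage q) (hL : L.IsSplitting) (Φ : 𝒳 ⥤ 𝒴) (Ψ : 𝒴 ⥤ 𝒳)
    (h₁ : Φ ⋙ Ψ = 𝟭 𝒳) (h₂ : Ψ ⋙ Φ = 𝟭 𝒴) (h₃ : Φ ⋙ q = p) :
    ∃ K : FibCat.Cleavage p, K.IsSplitting := by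
  subst h₃
  have e₁ : ∀ a, Ψ.obj (Φ.obj a) = a := fun a => Functor.congr_obj h₁ a
  have e₂ : ∀ y, Φ.obj (Ψ.obj y) = y := fun y => Functor.congr_obj h₂ y
  have hm₁ : ∀ {a b : 𝒳} (φ : a ⟶ b), Ψ.map (Φ.map φ) = eqToHom (e₁ a) ≫ φ ≫ eqToHom (e₁ b).symm :=
    fun φ => Functor.congr_hom h₁ φ
  have hm₂ : ∀ {a b : 𝒴} (φ : a ⟶ b), Φ.map (Ψ.map φ) = eqToHom (e₂ a) ≫ φ ≫ eqToHom (e₂ b).symm :=
    fun φ => Functor.congr_hom h₂ φ
  let K : FibCat.Cleavage (Φ ⋙ q) :=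
    { obj := fun {R S a} ha f => Ψ.obj (L.obj (a := Φ.obj a) ha f)
      lift := fun {R S a} ha f => Ψ.map (L.lift (a := Φ.obj a) ha f) ≫ eqToHom (e₁ a)
      isCartesian := fun {R S a} ha f => by
        have hcl : Φ.map (Ψ.map (L.lift (a := Φ.obj a) ha f) ≫ eqToHom (e₁ a)) =
            eqToHom (e₂ _) ≫ L.lift (a := Φ.obj a) ha f := by
          rw [Functor.map_comp, hm₂, eqToHom_map]; simp
        haveI hl : (Φ ⋙ q).IsHomLift f (Ψ.map (L.lift (a := Φ.obj a) ha f) ≫ eqToHom (e₁ a)) := by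
          refine IsHomLift.of_fac' (Φ ⋙ q) _ _ ((congrArg q.obj (e₂ _)).trans (L.obj_proj ha f)) ha ?_
          show q.map (Φ.map _) = _
          rw [hcl, Functor.map_comp, IsHomLift.fac' q f (L.lift (a := Φ.obj a) ha f), eqToHom_map]
          simp
        refine { universal_property := fun {a'} φ' _ => ?_ }
        have hd : q.obj (Φ.obj a') = R := IsHomLift.domain_eq (Φ ⋙ q) f φ'
        haveI : q.IsHomLift f (Φ.map φ') :=
          IsHomLift.of_fac' q _ _ hd ha (IsHomLift.fac' (Φ ⋙ q) f φ')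
        let χ := IsCartesian.map q f (L.lift (a := Φ.obj a) ha f) (Φ.map φ')
        have hχ : χ ≫ L.lift (a := Φ.obj a) ha f = Φ.map φ' := IsCartesian.fac _ _ _ _
        refine ⟨eqToHom (e₁ a').symm ≫ Ψ.map χ, ⟨?_, ?_⟩, ?_⟩
        · refine IsHomLift.of_fac' (Φ ⋙ q) _ _ hd ((congrArg q.obj (e₂ _)).trans (L.obj_proj ha f)) ?_
          show q.map (Φ.map _) = _
          rw [Functor.map_comp, hm₂, Functor.map_comp, Functor.map_comp, Functor.map_comp,
            IsHomLift.fac' q (𝟙 R) χ]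
          simp [eqToHom_map]
        · rw [Category.assoc, ← Category.assoc (Ψ.map χ), ← Functor.map_comp, hχ, hm₁]
          simp
        · rintro ψ ⟨hψ, hψ'⟩
          have : q.IsHomLift (𝟙 R) (Φ.map ψ ≫ eqToHom (e₂ _)) := by
            refine IsHomLift.of_fac' q _ _ hd (L.obj_proj ha f) ?_
            rw [Functor.map_comp, show q.map (Φ.map ψ) = _ from IsHomLift.fac' (Φ ⋙ q) (𝟙 R) ψ, eqToHom_map]
            simp
          have key : Φ.map ψ ≫ eqToHom (e₂ _) = χ := by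
            refine IsCartesian.map_uniq q f (L.lift (a := Φ.obj a) ha f) (Φ.map φ') _ ?_
            rw [Category.assoc, ← hcl, ← Functor.map_comp, hψ']
          rw [← key, Functor.map_comp, hm₁, eqToHom_map]
          simp }
  refine ⟨K, fun S a ha => ?_, fun S T U f g a ha => ?_⟩
  · obtain ⟨h, hh⟩ := hL.1 (show q.obj (Φ.obj a) = S from ha)
    exact ⟨(congrArg Ψ.obj h).trans (e₁ a), (congrArg (fun t => Ψ.map t ≫ eqToHom (e₁ a)) hh).trans (by
      simp [eqToHom_map])⟩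
  · obtain ⟨h, hh⟩ := hL.2 f g (show q.obj (Φ.obj a) = S from ha)
    obtain ⟨h', hh'⟩ := cleavage_congr L (e₂ (L.obj (a := Φ.obj a) ha f)) (K.obj_proj ha f) (L.obj_proj ha f) g
    refine ⟨congrArg Ψ.obj (h'.trans h), ?_⟩
    show (Ψ.map (L.lift (a := Φ.obj (Ψ.obj (L.obj (a := Φ.obj a) ha f))) (K.obj_proj ha f) g) ≫ eqToHom _) ≫
      Ψ.map (L.lift (a := Φ.obj a) ha f) ≫ eqToHom _ = eqToHom _ ≫ Ψ.map (L.lift (a := Φ.obj a) ha (g ≫ f)) ≫ eqToHom _
    rw [← eqToHom_map Ψ (e₂ (L.obj (a := Φ.obj a) ha f)), ← eqToHom_map Ψ (h'.trans h)]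
    simp only [← Category.assoc, ← Functor.map_comp]
    rw [hh', Category.assoc, hh, eqToHom_trans_assoc]

end Transfer

section OfSplit

variable {𝒳 : Type u₂} [Category.{v₂} 𝒳] {p : 𝒳 ⥤ 𝒮} (K : FibCat.Cleavage p)

lemma fib_eqToHom {S : 𝒮} {a b : p.Fiber S} (h : a = b) : (eqToHom h).1 = eqToHom (congrArg Subtype.val h) := by
  subst h; rfl

lemma inv_map_fac {R S : 𝒮} (f : R ⟶ S) {a b : p.Fiber S} (φ : a ⟶ b) :
    ((K.inverseImage f).map φ).1 ≫ K.lift b.2 f = K.lift a.2 f ≫ φ.1 :=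
  IsCartesian.fac p f (K.lift b.2 f) _

lemma fib_eq_of_lift {R S : 𝒮} (f : R ⟶ S) {a : p.Fiber S} {x : p.Fiber R} (φ ψ : x ⟶ (K.inverseImage f).obj a)
    (h : φ.1 ≫ K.lift a.2 f = ψ.1 ≫ K.lift a.2 f) : φ = ψ := by
  haveI := φ.2
  haveI := ψ.2
  exact Subtype.ext (IsCartesian.ext p f (K.lift a.2 f) _ _ h)

variable (hK : K.IsSplitting)
include hK

lemma inverseImage_id (S : 𝒮) : K.inverseImage (𝟙 S) = 𝟭 _ := by
  have e : ∀ a : p.Fiber S, (K.inverseImage (𝟙 S)).obj a = a := fun a => Subtype.ext (hK.1 a.2).choose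
  refine CategoryTheory.Functor.ext e fun a b φ => ?_
  refine fib_eq_of_lift K (𝟙 S) _ _ ((inv_map_fac K _ φ).trans ?_)
  show K.lift a.2 (𝟙 S) ≫ φ.1 = ((eqToHom (e a)).1 ≫ φ.1 ≫ (eqToHom (e b).symm).1) ≫ K.lift b.2 (𝟙 S)
  rw [fib_eqToHom, fib_eqToHom, (hK.1 a.2).choose_spec, (hK.1 b.2).choose_spec]
  simp

lemma inverseImage_comp {S T U : 𝒮} (f : T ⟶ S) (g : U ⟶ T) :
    K.inverseImage (g ≫ f) = K.inverseImage f ⋙ K.inverseImage g := by
  have e : ∀ a : p.Fiber S, (K.inverseImage (g ≫ f)).obj a = (K.inverseImage f ⋙ K.inverseImage g).obj a :=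
    fun a => Subtype.ext (hK.2 f g a.2).choose.symm
  refine CategoryTheory.Functor.ext e fun a b φ => ?_
  refine fib_eq_of_lift K (g ≫ f) _ _ ((inv_map_fac K _ φ).trans ?_)
  show K.lift a.2 (g ≫ f) ≫ φ.1 = ((eqToHom (e a)).1 ≫
    ((K.inverseImage g).map ((K.inverseImage f).map φ)).1 ≫ (eqToHom (e b).symm).1) ≫ K.lift b.2 (g ≫ f)
  rw [fib_eqToHom, fib_eqToHom, Category.assoc, Category.assoc]
  erw [← (hK.2 f g b.2).choose_spec, reassoc_of% (inv_map_fac K g ((K.inverseImage f).map φ)), inv_map_fac K f φ,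
    reassoc_of% (hK.2 f g a.2).choose_spec]
  simp

/-- The strict functor of a splitting. -/
noncomputable def fibFunctor : 𝒮ᵒᵖ ⥤ Cat.{v₂, u₂} where
  obj S := Cat.of (p.Fiber S.unop)
  map f := (K.inverseImage f.unop).toCatHom
  map_id S := Cat.Hom.ext (inverseImage_id K hK S.unop)
  map_comp f g := Cat.Hom.ext (inverseImage_comp K hK f.unop g.unop)

/-- The comparison from the category of pairs. -/
noncomputable def fromTot : Tot (fibFunctor K hK) ⥤ 𝒳 where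
  obj x := x.fiber.1
  map {x y} m := m.fiber.1 ≫ K.lift y.fiber.2 m.base
  map_id x := by
    show ((((fibFunctor K hK).toPseudofunctor').mapId ⟨op x.base⟩).inv.toNatTrans.app x.fiber).1 ≫
      K.lift x.fiber.2 (𝟙 x.base) = 𝟙 _
    rw [Functor.toPseudofunctor'_mapId]
    simp only [eqToIso.inv, Cat.Hom₂.eqToHom_toNatTrans, eqToHom_app]
    erw [fib_eqToHom, (hK.1 x.fiber.2).choose_spec]
    exact (eqToHom_trans _ _).trans (eqToHom_refl _ _)
  map_comp {x y z} m n := by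
    show (m.fiber.1 ≫ ((K.inverseImage m.base).map n.fiber).1 ≫
      ((((fibFunctor K hK).toPseudofunctor').mapComp n.base.op.toLoc m.base.op.toLoc).inv.toNatTrans.app z.fiber).1) ≫
      K.lift z.fiber.2 (m.base ≫ n.base) = (m.fiber.1 ≫ K.lift y.fiber.2 m.base) ≫ n.fiber.1 ≫ K.lift z.fiber.2 n.base
    rw [Functor.toPseudofunctor'_mapComp]
    simp only [eqToIso.inv, Cat.Hom₂.eqToHom_toNatTrans, eqToHom_app]
    erw [fib_eqToHom, Category.assoc, Category.assoc, ← (hK.2 n.base m.base z.fiber.2).choose_spec,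
      reassoc_of% (inv_map_fac K m.base n.fiber)]
    simp

lemma fromTot_proj {x y : Tot (fibFunctor K hK)} (m : x ⟶ y) :
    p.map ((fromTot K hK).map m) = eqToHom x.fiber.2 ≫ m.base ≫ eqToHom y.fiber.2.symm := by
  have : p.IsHomLift (𝟙 x.base) m.fiber.1 := m.fiber.2
  have hl : p.IsHomLift m.base (m.fiber.1 ≫ K.lift y.fiber.2 m.base) :=
    IsHomLift.comp_lift_id_left' p x.base m.fiber.1 m.base (K.lift y.fiber.2 m.base)
  exact IsHomLift.fac' p m.base (m.fiber.1 ≫ K.lift y.fiber.2 m.base)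

theorem exists_iso_tot : ∃ (F : 𝒮ᵒᵖ ⥤ Cat.{v₂, u₂}) (Φ : 𝒳 ⥤ Tot F) (Ψ : Tot F ⥤ 𝒳),
    Φ ⋙ Ψ = 𝟭 𝒳 ∧ Ψ ⋙ Φ = 𝟭 _ ∧ Φ ⋙ forget F.toPseudofunctor' = p := by
  let Ψ := fromTot K hK
  haveI : Ψ.Faithful := ⟨fun {x y m n} h => by
    have hb : m.base = n.base := by
      have := congrArg p.map h
      rw [fromTot_proj, fromTot_proj] at this
      simpa [cancel_epi, cancel_mono] using this
    obtain ⟨mb, mf⟩ := m
    obtain ⟨nb, nf⟩ := n
    obtain rfl : mb = nb := hb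
    have : mf = nf := fib_eq_of_lift K mb _ _ h
    rw [this]⟩
  haveI : Ψ.Full := ⟨fun {x y} φ => by
    let f : x.base ⟶ y.base := eqToHom x.fiber.2.symm ≫ p.map φ ≫ eqToHom y.fiber.2
    haveI : p.IsHomLift f φ := IsHomLift.of_fac' p _ _ x.fiber.2 y.fiber.2 (by simp [f])
    exact ⟨⟨f, ⟨IsCartesian.map p f (K.lift y.fiber.2 f) φ,
      inferInstanceAs (p.IsHomLift (𝟙 x.base) (IsCartesian.map p f (K.lift y.fiber.2 f) φ))⟩⟩,
      IsCartesian.fac p f (K.lift y.fiber.2 f) φ⟩⟩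
  let o : 𝒳 → Tot (fibFunctor K hK) := fun a => ⟨p.obj a, ⟨a, rfl⟩⟩
  let Φ : 𝒳 ⥤ Tot (fibFunctor K hK) :=
    { obj := o
      map := fun {a b} φ => Ψ.preimage (X := o a) (Y := o b) φ
      map_id := fun a => Ψ.map_injective ((Ψ.map_preimage _).trans (Ψ.map_id (o a)).symm)
      map_comp := fun {a b c} φ ψ => Ψ.map_injective (by
        rw [Ψ.map_preimage, Ψ.map_comp, Ψ.map_preimage, Ψ.map_preimage]) }
  have ho : ∀ x : Tot (fibFunctor K hK), o (Ψ.obj x) = x := by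
    rintro ⟨S, a, ha⟩
    change p.obj a = S at ha
    show o a = _
    cases ha
    rfl
  refine ⟨fibFunctor K hK, Φ, Ψ, CategoryTheory.Functor.ext (fun _ => rfl) (fun a b φ => ?_),
    CategoryTheory.Functor.ext ho (fun x y m => Ψ.map_injective ?_), CategoryTheory.Functor.ext (fun _ => rfl) (fun a b φ => ?_)⟩
  · refine (Ψ.map_preimage (X := o a) (Y := o b) φ).trans ?_
    exact ((Category.id_comp _).trans (Category.comp_id _)).symm
  · refine (Ψ.map_preimage (X := o (Ψ.obj x)) (Y := o (Ψ.obj y)) (Ψ.map (X := x) (Y := y) m)).trans ?_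
    show _ = Ψ.map (eqToHom (ho x) ≫ m ≫ eqToHom (ho y).symm)
    rw [Ψ.map_comp, Ψ.map_comp, eqToHom_map, eqToHom_map]
    exact ((Category.id_comp _).trans (Category.comp_id _)).symm
  · refine Eq.trans ?_ ((Category.id_comp _).trans (Category.comp_id _)).symm
    have := fromTot_proj K hK (Φ.map φ)
    rw [show Ψ.map (Φ.map φ) = φ from Ψ.map_preimage (X := o a) (Y := o b) φ] at this
    exact ((this.trans (Category.id_comp _)).trans (Category.comp_id _)).symm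

end OfSplit

end Groth.Agent.FibBase
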