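import Groth.Agent.FibBase.Yoneda
import Groth.Agent.FibBase.Split

/-!
# Every fibred category is equivalent to a split one
-/

set_option autoImplicit false
set_option backward.isDefEq.respectTransparency false
set_option backward.isDefEq.respectTransparency.types false

universe v₂ u₂ v u

open CategoryTheory CategoryTheory.Functor

namespace Groth.Agent.FibBase

variable {C : Type u} [Category.{v} C] (𝒳 : BasedCategory.{v₂, u₂} C)

lemma basedFunctor_ext {𝒜 : BasedCategory.{v, max u v} C} {F G : 𝒜 ⥤ᵇ 𝒳} (h : F.toFunctor = G.toFunctor) :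
    F = G := by
  cases F; cases G; cases h; rfl

/-- The functor between slices given by composition. -/
def sliceMap {V U : C} (f : V ⟶ U) : FibCat.overCat V ⥤ᵇ FibCat.overCat U where
  toFunctor := Over.map f
  w := rfl

/-- An object of a fibred category together with a coherent choice of all its pullbacks. -/
structure SObj where
  /-- the base object -/
  U : C
  /-- the pullbacks -/
  G : FibCat.overCat U ⥤ᵇ 𝒳
  preserves : FibCat.PreservesStronglyCartesian G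

variable {𝒳}

/-- The underlying object. -/
abbrev SObj.pt (a : SObj 𝒳) : 𝒳.obj := a.G.obj (Over.mk (𝟙 a.U))

lemma SObj.pt_proj (a : SObj 𝒳) : 𝒳.p.obj a.pt = a.U := a.G.w_obj _

variable (𝒳) in
/-- The strictification of a fibred category. -/
abbrev SCat := InducedCategory 𝒳.obj (SObj.pt (𝒳 := 𝒳))

/-- An element of the strictification. -/
abbrev SCat.mk (U : C) (G : FibCat.overCat U ⥤ᵇ 𝒳) (hG : FibCat.PreservesStronglyCartesian G) : SCat 𝒳 :=
  (⟨U, G, hG⟩ : SObj 𝒳)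

variable (𝒳) in
/-- The projection of the strictification. -/
def sproj : SCat 𝒳 ⥤ C where
  obj a := SObj.U a
  map {a b} φ := eqToHom (SObj.pt_proj a).symm ≫ 𝒳.p.map φ.hom ≫ eqToHom (SObj.pt_proj b)
  map_id a := by simp
  map_comp φ ψ := by simp

lemma sproj_isHomLift_iff {a b : SCat 𝒳} {R S : C} (f : R ⟶ S) (φ : a ⟶ b) :
    (sproj 𝒳).IsHomLift f φ ↔ 𝒳.p.IsHomLift f φ.hom := by
  refine ⟨fun h => ?_, fun h => ?_⟩
  · have hd := IsHomLift.domain_eq (sproj 𝒳) f φ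
    have hc := IsHomLift.codomain_eq (sproj 𝒳) f φ
    refine IsHomLift.of_fac' 𝒳.p _ _ ((SObj.pt_proj a).trans hd) ((SObj.pt_proj b).trans hc) ?_
    have e := IsHomLift.fac' (sproj 𝒳) f φ
    calc 𝒳.p.map φ.hom = eqToHom (SObj.pt_proj a) ≫ (sproj 𝒳).map φ ≫ eqToHom (SObj.pt_proj b).symm := by simp [sproj]
      _ = _ := by rw [e]; simp
  · have hd := IsHomLift.domain_eq 𝒳.p f φ.hom
    have hc := IsHomLift.codomain_eq 𝒳.p f φ.hom
    refine IsHomLift.of_fac' (sproj 𝒳) _ _ ((SObj.pt_proj a).symm.trans hd) ((SObj.pt_proj b).symm.trans hc) ?_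
    show eqToHom _ ≫ 𝒳.p.map φ.hom ≫ eqToHom _ = _
    rw [IsHomLift.fac' 𝒳.p f φ.hom]
    simp

/-- The forgetful functor from the strictification. -/
def sForget : BasedCategory.ofFunctor (sproj 𝒳) ⥤ᵇ 𝒳 where
  toFunctor := inducedFunctor _
  w := Functor.ext (fun a => SObj.pt_proj a) (fun a b φ => by
    show 𝒳.p.map φ.hom = eqToHom _ ≫ (eqToHom _ ≫ 𝒳.p.map φ.hom ≫ eqToHom _) ≫ eqToHom _
    simp)

theorem sForget_isEquivOver [𝒳.p.IsFibered] : FibCat.IsEquivOver (sForget (𝒳 := 𝒳)) := by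
  refine isEquivOver_of_exists_iso _ (InducedCategory.full _) (InducedCategory.faithful _) fun η => ?_
  obtain ⟨i⟩ := ofObj_iso (𝒳 := 𝒳) (U := 𝒳.p.obj η) ⟨η, rfl⟩
  exact ⟨SCat.mk (𝒳.p.obj η) (ofObj ⟨η, rfl⟩) (ofObj_preserves _), ofFiberIso i, ofFiberIso_lift i⟩

lemma comp_sliceMap_preserves {U V : C} {G : FibCat.overCat U ⥤ᵇ 𝒳}
    (hG : FibCat.PreservesStronglyCartesian G) (f : V ⟶ U) :
    FibCat.PreservesStronglyCartesian (BasedFunctor.comp (sliceMap f) G) := by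
  intro R S k X Y g hg
  have := hg.toIsHomLift
  subst_hom_lift (FibCat.overCat V).p k g
  exact hG _ ((Over.map f).map g) (overForget_isSC ((Over.map f).map g))

/-- The chosen pullback in the strictification. -/
abbrev spull (a : SCat 𝒳) {R : C} (f : R ⟶ SObj.U a) : SCat 𝒳 :=
  SCat.mk R (BasedFunctor.comp (sliceMap f) (SObj.G a)) (comp_sliceMap_preserves (SObj.preserves a) f)

/-- The chosen map from the pullback in the strictification. -/
def slift (a : SCat 𝒳) {R : C} (f : R ⟶ SObj.U a) : spull a f ⟶ a :=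
  InducedCategory.homMk ((SObj.G a).map (toId ((Over.map f).obj (Over.mk (𝟙 R)))))

lemma map_toId_congr {U : C} (G : FibCat.overCat U ⥤ᵇ 𝒳) {X Y : Over U} (e : X = Y) :
    G.map (toId X) = eqToHom (congrArg G.obj e) ≫ G.map (toId Y) := by
  subst e
  simp

lemma spull_id (a : SCat 𝒳) {f : SObj.U a ⟶ SObj.U a} (h : f = 𝟙 _) : spull a f = a := by
  subst h
  obtain ⟨U, G, hG⟩ := a
  have : BasedFunctor.comp (sliceMap (𝟙 U)) G = G :=
    basedFunctor_ext _ (show Over.map (𝟙 U) ⋙ G.toFunctor = _ by rw [Over.mapId_eq]; rfl)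
  show (⟨U, BasedFunctor.comp (sliceMap (𝟙 U)) G, _⟩ : SObj 𝒳) = ⟨U, G, hG⟩
  simp only [SObj.mk.injEq, heq_eq_eq, true_and]
  exact this

lemma spull_comp (a : SCat 𝒳) {R T : C} (f : T ⟶ SObj.U a) (g : R ⟶ T) {k : R ⟶ SObj.U a} (h : k = g ≫ f) :
    spull (spull a f) g = spull a k := by
  subst h
  obtain ⟨U, G, hG⟩ := a
  have : BasedFunctor.comp (sliceMap g) (BasedFunctor.comp (sliceMap f) G) = BasedFunctor.comp (sliceMap (g ≫ f)) G :=
    basedFunctor_ext _ (show Over.map g ⋙ Over.map f ⋙ G.toFunctor = Over.map (g ≫ f) ⋙ G.toFunctor by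
      rw [Over.mapComp_eq]; rfl)
  show (⟨R, BasedFunctor.comp (sliceMap g) (BasedFunctor.comp (sliceMap f) G), _⟩ : SObj 𝒳) =
    ⟨R, BasedFunctor.comp (sliceMap (g ≫ f)) G, _⟩
  simp only [SObj.mk.injEq, heq_eq_eq, true_and]
  exact this

lemma seqToHom_hom {a b : SCat 𝒳} (h : a = b) : (eqToHom h).hom = eqToHom (congrArg SObj.pt h) := by
  subst h; rfl

lemma slift_isSC (a : SCat 𝒳) {R S : C} (ha : SObj.U a = S) (f : R ⟶ S) :
    𝒳.p.IsStronglyCartesian f (slift a (f ≫ eqToHom ha.symm)).hom := by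
  subst ha
  have h := overMap_isSC (SObj.preserves a) (toId ((Over.map (f ≫ eqToHom rfl)).obj (Over.mk (𝟙 R))))
  have e : (toId ((Over.map (f ≫ eqToHom rfl)).obj (Over.mk (𝟙 R)))).left = f := by simp [toId]
  rw [e] at h
  exact h

variable (𝒳) in
/-- The cleavage of the strictification. -/
noncomputable def sCleavage : FibCat.Cleavage (sproj 𝒳) where
  obj {_ _ a} ha f := spull a (f ≫ eqToHom ha.symm)
  lift {_ _ a} ha f := slift a (f ≫ eqToHom ha.symm)
  isCartesian {R S a} ha f := by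
    have h := slift_isSC a ha f
    haveI : (sproj 𝒳).IsHomLift f (slift a (f ≫ eqToHom ha.symm)) := (sproj_isHomLift_iff f _).2 inferInstance
    refine { universal_property := fun {a'} φ' _ => ?_ }
    have := (sproj_isHomLift_iff f φ').1 inferInstance
    refine ⟨InducedCategory.homMk (IsCartesian.map 𝒳.p f (slift a (f ≫ eqToHom ha.symm)).hom φ'.hom),
      ⟨(sproj_isHomLift_iff _ _).2 (inferInstanceAs (𝒳.p.IsHomLift (𝟙 R) (IsCartesian.map 𝒳.p f _ φ'.hom))),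
        InducedCategory.hom_ext (IsCartesian.fac 𝒳.p f (slift a (f ≫ eqToHom ha.symm)).hom φ'.hom)⟩, fun ψ hψ => InducedCategory.hom_ext ?_⟩
    obtain ⟨hψ, hψ'⟩ := hψ
    have := (sproj_isHomLift_iff (𝟙 R) ψ).1 hψ
    exact IsCartesian.map_uniq 𝒳.p f _ φ'.hom ψ.hom (congrArg InducedCategory.Hom.hom hψ')

theorem sCleavage_isSplitting : (sCleavage 𝒳).IsSplitting := by
  refine ⟨fun S a ha => ?_, fun S T R f g a ha => ?_⟩
  · subst ha
    have h : spull a (𝟙 (SObj.U a) ≫ eqToHom rfl) = a := spull_id a (by simp)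
    refine ⟨h, InducedCategory.hom_ext ?_⟩
    show (SObj.G a).map (toId _) = (eqToHom h).hom
    have e : (Over.map (𝟙 (SObj.U a) ≫ eqToHom rfl)).obj (Over.mk (𝟙 _)) = Over.mk (𝟙 (SObj.U a)) := by
      show Over.mk (𝟙 _ ≫ 𝟙 _ ≫ 𝟙 _) = _
      simp
    refine (map_toId_congr (SObj.G a) e).trans ?_
    rw [seqToHom_hom, show toId (Over.mk (𝟙 (SObj.U a))) = 𝟙 _ from rfl, Functor.map_id]
    exact Category.comp_id _
  · subst ha
    have h : spull (spull a (f ≫ eqToHom rfl)) (g ≫ eqToHom rfl) = spull a ((g ≫ f) ≫ eqToHom rfl) :=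
      spull_comp a _ _ (by simp)
    refine ⟨h, InducedCategory.hom_ext ?_⟩
    show (SObj.G a).map ((Over.map (f ≫ eqToHom rfl)).map (toId ((Over.map (g ≫ eqToHom rfl)).obj (Over.mk (𝟙 R))))) ≫
      (SObj.G a).map (toId ((Over.map (f ≫ eqToHom rfl)).obj (Over.mk (𝟙 T)))) =
        (eqToHom h).hom ≫ (SObj.G a).map (toId ((Over.map ((g ≫ f) ≫ eqToHom rfl)).obj (Over.mk (𝟙 R))))
    rw [seqToHom_hom, ← Functor.map_comp]
    have e : (Over.map (f ≫ eqToHom rfl)).obj ((Over.map (g ≫ eqToHom rfl)).obj (Over.mk (𝟙 R))) =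
        (Over.map ((g ≫ f) ≫ eqToHom rfl)).obj (Over.mk (𝟙 R)) := by
      show Over.mk ((𝟙 _ ≫ g ≫ 𝟙 _) ≫ f ≫ 𝟙 _) = Over.mk (𝟙 _ ≫ (g ≫ f) ≫ 𝟙 _)
      simp
    rw [show (Over.map (f ≫ eqToHom rfl)).map (toId ((Over.map (g ≫ eqToHom rfl)).obj (Over.mk (𝟙 R)))) ≫
      toId ((Over.map (f ≫ eqToHom rfl)).obj (Over.mk (𝟙 T))) = toId _ from
        Over.OverMorphism.ext (by simp [toId]), map_toId_congr _ e]

end Groth.Agent.FibBase

namespace Groth.Agent.FibBase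

universe v₃ u₃ v₄ u₄

variable {C : Type u} [Category.{v} C]

lemma isEquivOver_comp' {𝒳 : BasedCategory.{v₂, u₂} C} {𝒴 : BasedCategory.{v₃, u₃} C}
    {𝒵 : BasedCategory.{v₄, u₄} C} {F : 𝒳 ⥤ᵇ 𝒴} {G : 𝒴 ⥤ᵇ 𝒵} (hF : FibCat.IsEquivOver F)
    (hG : FibCat.IsEquivOver G) : FibCat.IsEquivOver (BasedFunctor.comp F G) := by
  have := isEquivalence_of_isEquivOver hF
  have := isEquivalence_of_isEquivOver hG
  refine isEquivOver_of_exists_iso _ (inferInstanceAs (F.toFunctor ⋙ G.toFunctor).Full)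
    (inferInstanceAs (F.toFunctor ⋙ G.toFunctor).Faithful) fun η => ?_
  obtain ⟨y, e, he⟩ := exists_iso_over_of_isEquivOver hG η rfl
  have hy : 𝒴.p.obj y = 𝒵.p.obj η :=
    (G.w_obj y).symm.trans (IsHomLift.domain_eq 𝒵.p (𝟙 (𝒵.p.obj η)) e.hom)
  obtain ⟨x, d, hd⟩ := exists_iso_over_of_isEquivOver hF y hy
  have := G.preserves_isHomLift (𝟙 (𝒵.p.obj η)) d.hom
  exact ⟨x, G.mapIso d ≪≫ e,
    IsHomLift.comp_lift_id_left' 𝒵.p (𝒵.p.obj η) (G.map d.hom) (𝟙 (𝒵.p.obj η)) e.hom⟩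

theorem exists_equivOver_strict (𝒳 : BasedCategory.{v, max u v} C) [𝒳.p.IsFibered] :
    ∃ (F : Cᵒᵖ ⥤ Cat.{v, max u v})
      (E : 𝒳 ⥤ᵇ BasedCategory.ofFunctor (Pseudofunctor.CoGrothendieck.forget F.toPseudofunctor')),
      FibCat.IsEquivOver E := by
  obtain ⟨F, Φ, Ψ, h₁, h₂, h₃⟩ := exists_iso_tot (sCleavage 𝒳) sCleavage_isSplitting
  obtain ⟨G, ⟨e₁⟩, ⟨e₂⟩⟩ := sForget_isEquivOver (𝒳 := 𝒳)
  have h₄ : Ψ ⋙ sproj 𝒳 = Pseudofunctor.CoGrothendieck.forget F.toPseudofunctor' := by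
    rw [← h₃, ← Functor.assoc, h₂, Functor.id_comp]
  let Φ' : BasedCategory.ofFunctor (sproj 𝒳) ⥤ᵇ
      BasedCategory.ofFunctor (Pseudofunctor.CoGrothendieck.forget F.toPseudofunctor') :=
    { toFunctor := Φ, w := h₃ }
  let Ψ' : BasedCategory.ofFunctor (Pseudofunctor.CoGrothendieck.forget F.toPseudofunctor') ⥤ᵇ
      BasedCategory.ofFunctor (sproj 𝒳) := { toFunctor := Ψ, w := h₄ }
  have hΦ : FibCat.IsEquivOver Φ' :=
    ⟨Ψ', ⟨BasedNatIso.mkNatIso (eqToIso h₁) fun a => isHomLift_id_of_map_eq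
        (congrArg (sproj 𝒳).obj (Functor.congr_obj h₁ a)) rfl (by rw [eqToIso.hom, eqToHom_app]; exact eqToHom_map _ _)⟩,
      ⟨BasedNatIso.mkNatIso (eqToIso h₂) fun a => isHomLift_id_of_map_eq
        (congrArg (Pseudofunctor.CoGrothendieck.forget F.toPseudofunctor').obj (Functor.congr_obj h₂ a)) rfl
          (by rw [eqToIso.hom, eqToHom_app]; exact eqToHom_map _ _)⟩⟩
  exact ⟨F, BasedFunctor.comp G Φ', isEquivOver_comp' ⟨sForget, ⟨e₂⟩, ⟨e₁⟩⟩ hΦ⟩

/-- A pair category fibred in groupoids comes from a functor to groupoids. -/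
theorem isGroupoid_of_isFibGrpd (F : Cᵒᵖ ⥤ Cat.{v₃, u₃})
    (h : FibCat.IsFibGrpd (Pseudofunctor.CoGrothendieck.forget F.toPseudofunctor')) (U : Cᵒᵖ) :
    IsGroupoid (F.obj U) := by
  let I := Fiber.inducedFunctor (Pseudofunctor.CoGrothendieck.comp_const F.toPseudofunctor' U.unop)
  have hG := fiber_isGroupoid h U.unop
  exact ⟨fun {a b} g => by
    have : IsIso (I.map g) := hG.all_isIso _
    have : I.Full := inferInstanceAs (Fiber.inducedFunctor (Pseudofunctor.CoGrothendieck.comp_const F.toPseudofunctor' U.unop)).Full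
    have : I.Faithful := inferInstanceAs (Fiber.inducedFunctor (Pseudofunctor.CoGrothendieck.comp_const F.toPseudofunctor' U.unop)).Faithful
    exact isIso_of_reflects_iso g I⟩

end Groth.Agent.FibBase
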