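import Groth.Agent.FibBase.Basic
import Groth.Prelude.Def_W4stkcategoriessitesFib
import Mathlib.CategoryTheory.Comma.Basic

/-!
# Factoring a map of fibred categories through a fibration
-/

set_option autoImplicit false
set_option backward.isDefEq.respectTransparency false
set_option backward.isDefEq.respectTransparency.types false

universe v₃ u₃ v₂ u₂ v u

open CategoryTheory CategoryTheory.Functor

namespace Groth.Agent.FibBase

variable {C : Type u} [Category.{v} C] {𝒳 : BasedCategory.{v₂, u₂} C} {𝒴 : BasedCategory.{v₃, u₃} C}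
  (F : 𝒳 ⥤ᵇ 𝒴)

/-- Triples `(y, x, a : y ⟶ F x)` with `a` vertical. -/
def vertProp : ObjectProperty (Comma (𝟭 𝒴.obj) F.toFunctor) :=
  fun t => 𝒴.p.IsHomLift (𝟙 (𝒳.p.obj t.right)) t.hom

/-- The factorising category over the base. -/
abbrev Fac : BasedCategory.{max v₂ v₃, max u₂ u₃ v₃} C where
  obj := (vertProp F).FullSubcategory
  p := (vertProp F).ι ⋙ Comma.snd _ _ ⋙ 𝒳.p

lemma fac_vert (t : (Fac F).obj) : 𝒴.p.IsHomLift (𝟙 (𝒳.p.obj t.obj.right)) t.obj.hom := t.property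

lemma fac_proj (t : (Fac F).obj) : 𝒴.p.obj t.obj.left = 𝒳.p.obj t.obj.right :=
  haveI := fac_vert F t
  IsHomLift.domain_eq 𝒴.p (𝟙 (𝒳.p.obj t.obj.right)) t.obj.hom

lemma fac_left_lift {s t : (Fac F).obj} (m : s ⟶ t) :
    𝒴.p.IsHomLift (𝒳.p.map m.hom.right) m.hom.left := by
  have hs := fac_vert F s
  have ht := fac_vert F t
  refine IsHomLift.of_fac' 𝒴.p _ _ (fac_proj F s) (fac_proj F t) ?_
  have hr := F.preserves_isHomLift (𝒳.p.map m.hom.right) m.hom.right
  have h := congrArg 𝒴.p.map m.hom.w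
  have h' : 𝒴.p.map m.hom.left ≫ 𝒴.p.map t.obj.hom = 𝒴.p.map s.obj.hom ≫ 𝒴.p.map (F.map m.hom.right) :=
    (𝒴.p.map_comp _ _).symm.trans (h.trans (𝒴.p.map_comp _ _))
  rw [map_eq_of_isHomLift_id ht, map_eq_of_isHomLift_id hs,
    IsHomLift.fac' 𝒴.p (𝒳.p.map m.hom.right) (F.map m.hom.right)] at h'
  calc 𝒴.p.map m.hom.left = (𝒴.p.map m.hom.left ≫ eqToHom ((fac_proj F t).trans (F.w_obj _).symm)) ≫
      eqToHom ((fac_proj F t).trans (F.w_obj _).symm).symm := by simp
    _ = _ := by rw [h']; simp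

/-- The projection to the target. -/
def facV : Fac F ⥤ᵇ 𝒴 where
  toFunctor := (vertProp F).ι ⋙ Comma.fst _ _
  w := Functor.ext (fac_proj F) fun s t m => by
    have := fac_left_lift F m
    exact IsHomLift.fac' 𝒴.p (𝒳.p.map m.hom.right) m.hom.left

/-- The projection to the source. -/
def facW : Fac F ⥤ᵇ 𝒳 where
  toFunctor := (vertProp F).ι ⋙ Comma.snd _ _
  w := rfl

lemma facU_prop (x : 𝒳.obj) : vertProp F ⟨F.obj x, x, 𝟙 _⟩ := IsHomLift.id (F.w_obj x)

/-- The inclusion of the source. -/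
def facU : 𝒳 ⥤ᵇ Fac F where
  toFunctor :=
    { obj := fun x => ⟨⟨F.obj x, x, 𝟙 _⟩, facU_prop F x⟩
      map := fun φ => ObjectProperty.homMk ⟨F.map φ, φ, by simp⟩
      map_id := fun x => by apply ObjectProperty.hom_ext; ext <;> simp
      map_comp := fun φ ψ => by apply ObjectProperty.hom_ext; ext <;> simp }
  w := rfl

/-- The adjunction between the projection and the inclusion. -/
def facAdj : (facW F).toFunctor ⊣ (facU F).toFunctor :=
  Adjunction.mkOfHomEquiv
    { homEquiv := fun t x =>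
        { toFun := fun φ => ObjectProperty.homMk ⟨t.obj.hom ≫ F.map φ, φ, (Category.comp_id _)⟩
          invFun := fun m => m.hom.right
          left_inv := fun φ => rfl
          right_inv := fun m => by
            apply ObjectProperty.hom_ext
            ext
            · exact m.hom.w.symm.trans (Category.comp_id _)
            · rfl }
      homEquiv_naturality_left_symm := fun f g => rfl
      homEquiv_naturality_right := fun f g => by
        apply ObjectProperty.hom_ext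
        ext
        · show _ ≫ F.map _ = (_ ≫ F.map _) ≫ F.map _
          rw [Category.assoc, ← F.toFunctor.map_comp]
        · rfl }

lemma facU_full : (facU F).toFunctor.Full :=
  ⟨fun {x x'} m => ⟨m.hom.right, by
    apply ObjectProperty.hom_ext
    ext
    · exact ((Category.comp_id _).symm.trans (m.hom.w.trans (Category.id_comp _))).symm
    · rfl⟩⟩

lemma facU_faithful : (facU F).toFunctor.Faithful :=
  ⟨fun {_ _} _ _ h => congrArg (fun k => k.hom.right) h⟩

lemma fac_isHomLift {R S : C} (f : R ⟶ S) {s t : (Fac F).obj} (m : s ⟶ t) [h : 𝒳.p.IsHomLift f m.hom.right] :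
    (Fac F).p.IsHomLift f m :=
  IsHomLift.of_fac' (Fac F).p f m (IsHomLift.domain_eq 𝒳.p f m.hom.right)
    (IsHomLift.codomain_eq 𝒳.p f m.hom.right) (IsHomLift.fac' 𝒳.p f m.hom.right)

lemma fac_isHomLift_right {R S : C} (f : R ⟶ S) {s t : (Fac F).obj} (m : s ⟶ t) [h : (Fac F).p.IsHomLift f m] :
    𝒳.p.IsHomLift f m.hom.right :=
  IsHomLift.of_fac' 𝒳.p f m.hom.right (IsHomLift.domain_eq (Fac F).p f m)
    (IsHomLift.codomain_eq (Fac F).p f m) (IsHomLift.fac' (Fac F).p f m)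

lemma fac_isHomLift_left {R S : C} (f : R ⟶ S) {s t : (Fac F).obj} (m : s ⟶ t) [h : (Fac F).p.IsHomLift f m] :
    𝒴.p.IsHomLift f m.hom.left :=
  (facV F).preserves_isHomLift f m

variable {F} (hF : FibCat.PreservesStronglyCartesian F)
include hF

theorem fac_isSC {R S : C} (f : R ⟶ S) {s t : (Fac F).obj} (m : s ⟶ t)
    [hr : 𝒳.p.IsStronglyCartesian f m.hom.right] [hl : 𝒴.p.IsStronglyCartesian f m.hom.left] :
    (Fac F).p.IsStronglyCartesian f m := by
  have := fac_isHomLift F f m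
  have hFr := hF f m.hom.right hr
  refine ⟨fun {z} g m' hm' => ?_⟩
  have := fac_isHomLift_right F (g ≫ f) m'
  have := fac_isHomLift_left F (g ≫ f) m'
  have hzR : (Fac F).p.obj s = R := IsHomLift.domain_eq (Fac F).p f m
  let χ := IsStronglyCartesian.map 𝒳.p f m.hom.right (g := g) (f' := g ≫ f) rfl m'.hom.right
  let ω := IsStronglyCartesian.map 𝒴.p f m.hom.left (g := g) (f' := g ≫ f) rfl m'.hom.left
  have hw : ω ≫ s.obj.hom = z.obj.hom ≫ F.map χ := by
    have := fac_vert F s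
    have := fac_vert F z
    have := F.preserves_isHomLift g χ
    haveI h1 : 𝒴.p.IsHomLift g (ω ≫ s.obj.hom) :=
      IsHomLift.comp_lift_id_right' 𝒴.p g ω (𝒳.p.obj s.obj.right) s.obj.hom
    haveI h2 : 𝒴.p.IsHomLift g (z.obj.hom ≫ F.map χ) :=
      IsHomLift.comp_lift_id_left' 𝒴.p (𝒳.p.obj z.obj.right) z.obj.hom g (F.map χ)
    refine IsStronglyCartesian.ext 𝒴.p f (F.map m.hom.right) g ?_
    rw [Category.assoc, Category.assoc, ← F.toFunctor.map_comp, IsStronglyCartesian.fac,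
      show s.obj.hom ≫ F.map m.hom.right = m.hom.left ≫ t.obj.hom from m.hom.w.symm,
      IsStronglyCartesian.fac_assoc]
    exact m'.hom.w
  let k : z ⟶ s := ObjectProperty.homMk ⟨ω, χ, hw⟩
  refine ⟨k, ⟨fac_isHomLift F g k (h := inferInstanceAs (𝒳.p.IsHomLift g χ)), ?_⟩, ?_⟩
  · apply ObjectProperty.hom_ext
    ext
    · exact IsStronglyCartesian.fac 𝒴.p f m.hom.left (g := g) (f' := g ≫ f) rfl m'.hom.left
    · exact IsStronglyCartesian.fac 𝒳.p f m.hom.right (g := g) (f' := g ≫ f) rfl m'.hom.right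
  · rintro k' ⟨hk', rfl⟩
    have := fac_isHomLift_right F g k'
    have := fac_isHomLift_left F g k'
    apply ObjectProperty.hom_ext
    ext
    · exact IsStronglyCartesian.map_uniq 𝒴.p f m.hom.left rfl _ k'.hom.left rfl
    · exact IsStronglyCartesian.map_uniq 𝒳.p f m.hom.right rfl _ k'.hom.right rfl

theorem fac_exists_lift (h𝒳 : 𝒳.p.IsFibered) {t : (Fac F).obj} {R : C} (f : R ⟶ 𝒳.p.obj t.obj.right)
    {y : 𝒴.obj} (ψ : y ⟶ t.obj.left) [𝒴.p.IsHomLift f ψ] :
    ∃ (s : (Fac F).obj) (m : s ⟶ t), 𝒳.p.IsStronglyCartesian f m.hom.right ∧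
      (𝒴.p.IsStronglyCartesian f ψ → 𝒴.p.IsStronglyCartesian f m.hom.left) ∧
      ∃ e : s.obj.left = y, m.hom.left = eqToHom e ≫ ψ := by
  have hr : 𝒳.p.IsStronglyCartesian f (IsPreFibered.pullbackMap (p := 𝒳.p) rfl f) := inferInstance
  have hFr := hF f _ hr
  have ht := fac_vert F t
  have : 𝒴.p.IsHomLift f (ψ ≫ t.obj.hom) :=
    IsHomLift.comp_lift_id_right' 𝒴.p f ψ (𝒳.p.obj t.obj.right) t.obj.hom
  let a : y ⟶ F.obj (IsPreFibered.pullbackObj (p := 𝒳.p) rfl f) :=
    IsCartesian.map 𝒴.p f (F.map (IsPreFibered.pullbackMap (p := 𝒳.p) rfl f)) (ψ ≫ t.obj.hom)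
  have ha : 𝒴.p.IsHomLift (𝟙 (𝒳.p.obj (IsPreFibered.pullbackObj (p := 𝒳.p) rfl f))) a :=
    isHomLift_id_congr (IsPreFibered.pullbackObj_proj (p := 𝒳.p) rfl f).symm inferInstance
  exact ⟨⟨⟨y, _, a⟩, ha⟩, ObjectProperty.homMk ⟨ψ, IsPreFibered.pullbackMap (p := 𝒳.p) rfl f,
    (IsCartesian.fac 𝒴.p f (F.map _) (ψ ≫ t.obj.hom)).symm⟩, hr, id, rfl, (Category.id_comp _).symm⟩

theorem fac_isFibered (h𝒳 : 𝒳.p.IsFibered) (h𝒴 : 𝒴.p.IsFibered) : (Fac F).p.IsFibered := by
  refine IsFibered.of_exists_isStronglyCartesian fun t R f => ?_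
  obtain ⟨s, m, hm, hl, -⟩ := fac_exists_lift hF h𝒳 f (IsPreFibered.pullbackMap (p := 𝒴.p) (fac_proj F t) f)
  haveI : 𝒴.p.IsStronglyCartesian f m.hom.left := by
    exact hl inferInstance
  exact ⟨s, m, fac_isSC hF f m⟩

theorem facU_preserves : FibCat.PreservesStronglyCartesian (facU F) := fun _ _ f _ _ φ h =>
  haveI : 𝒳.p.IsStronglyCartesian f ((facU F).map φ).hom.right := h
  haveI : 𝒴.p.IsStronglyCartesian f ((facU F).map φ).hom.left := hF f φ h
  fac_isSC hF f _

theorem fac_components_isSC (h𝒳 : 𝒳.p.IsFibered) (h𝒴 : 𝒴.p.IsFibered) {R S : C} (f : R ⟶ S) {s t : (Fac F).obj}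
    (m : s ⟶ t) [(Fac F).p.IsStronglyCartesian f m] :
    𝒳.p.IsStronglyCartesian f m.hom.right ∧ 𝒴.p.IsStronglyCartesian f m.hom.left := by
  obtain rfl : (Fac F).p.obj t = S := IsHomLift.codomain_eq (Fac F).p f m
  obtain ⟨s', m', hm', hl, -⟩ :=
    fac_exists_lift hF h𝒳 (t := t) f (IsPreFibered.pullbackMap (p := 𝒴.p) (fac_proj F t) f)
  haveI hl' : 𝒴.p.IsStronglyCartesian f m'.hom.left := by
    exact hl inferInstance
  have := fac_isSC hF f m'
  let i := IsCartesian.domainUniqueUpToIso (Fac F).p f m' m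
  have hi : i.hom ≫ m' = m := by simp [i]
  have hil : (Fac F).p.IsHomLift (𝟙 R) i.hom := inferInstance
  have h1 := fac_isHomLift_right F (𝟙 R) i.hom
  have h2 := fac_isHomLift_left F (𝟙 R) i.hom
  haveI : IsIso i.hom.hom.right := ((facW F).toFunctor.mapIso i).isIso_hom
  haveI : IsIso i.hom.hom.left := ((facV F).toFunctor.mapIso i).isIso_hom
  have := IsStronglyCartesian.of_isIso 𝒳.p (𝟙 R) i.hom.hom.right
  have := IsStronglyCartesian.of_isIso 𝒴.p (𝟙 R) i.hom.hom.left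
  refine ⟨?_, ?_⟩
  · have : 𝒳.p.IsStronglyCartesian (𝟙 R ≫ f) (i.hom.hom.right ≫ m'.hom.right) := inferInstance
    rw [← hi]
    simpa using this
  · have : 𝒴.p.IsStronglyCartesian (𝟙 R ≫ f) (i.hom.hom.left ≫ m'.hom.left) := inferInstance
    rw [← hi]
    simpa using this

theorem facW_preserves (h𝒳 : 𝒳.p.IsFibered) (h𝒴 : 𝒴.p.IsFibered) :
    FibCat.PreservesStronglyCartesian (facW F) := fun _ _ f _ _ m h =>
  haveI := h
  (fac_components_isSC hF h𝒳 h𝒴 f m).1

theorem facV_preserves (h𝒳 : 𝒳.p.IsFibered) (h𝒴 : 𝒴.p.IsFibered) :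
    FibCat.PreservesStronglyCartesian (facV F) := fun _ _ f _ _ m h =>
  haveI := h
  (fac_components_isSC hF h𝒳 h𝒴 f m).2

theorem facV_isFibered (h𝒳 : 𝒳.p.IsFibered) : (facV F).toFunctor.IsFibered := by
  refine IsFibered.of_exists_isStronglyCartesian fun t y ψ => ?_
  let f : 𝒴.p.obj y ⟶ 𝒳.p.obj t.obj.right := 𝒴.p.map ψ ≫ eqToHom (fac_proj F t)
  haveI : 𝒴.p.IsHomLift f ψ := IsHomLift.of_fac' 𝒴.p _ _ rfl (fac_proj F t) (by simp [f])
  obtain ⟨s, m, hm, -, e, he⟩ := fac_exists_lift hF h𝒳 f (ψ : y ⟶ t.obj.left)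
  subst e
  obtain rfl : m.hom.left = ψ := he.trans (Category.id_comp _)
  have hmm : (facV F).toFunctor.IsHomLift m.hom.left m := IsHomLift.map (facV F).toFunctor m
  have hFr := hF f m.hom.right hm
  refine ⟨s, m, { universal_property' := fun {z} χ m' hm' => ?_ }⟩
  have hl : m'.hom.left = χ ≫ m.hom.left := by
    have := IsHomLift.fac' (facV F).toFunctor (χ ≫ m.hom.left) m'
    simpa [facV] using this
  let g : 𝒳.p.obj z.obj.right ⟶ 𝒴.p.obj s.obj.left := eqToHom (fac_proj F z).symm ≫ 𝒴.p.map χ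
  haveI hgl : 𝒴.p.IsHomLift g χ := IsHomLift.of_fac' 𝒴.p _ _ (fac_proj F z) rfl (by simp [g])
  haveI hgf : 𝒴.p.IsHomLift (g ≫ f) m'.hom.left := by rw [hl]; infer_instance
  haveI hm'r : 𝒳.p.IsHomLift (g ≫ f) m'.hom.right := by
    have := fac_left_lift F m'
    have e2 : 𝒳.p.map m'.hom.right = g ≫ f := by
      have a := IsHomLift.fac' 𝒴.p (𝒳.p.map m'.hom.right) m'.hom.left
      have b := IsHomLift.fac' 𝒴.p (g ≫ f) m'.hom.left
      have c := a.symm.trans b
      rw [cancel_epi, cancel_mono] at c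
      exact c
    rw [← e2]; exact IsHomLift.map _ _
  let φ := IsStronglyCartesian.map 𝒳.p f m.hom.right (g := g) (f' := g ≫ f) rfl m'.hom.right
  have hw : χ ≫ s.obj.hom = z.obj.hom ≫ F.map φ := by
    have := fac_vert F s
    have := fac_vert F z
    have := F.preserves_isHomLift g φ
    haveI h1 : 𝒴.p.IsHomLift g (χ ≫ s.obj.hom) :=
      IsHomLift.comp_lift_id_right' 𝒴.p g χ (𝒳.p.obj s.obj.right) s.obj.hom
    haveI h2 : 𝒴.p.IsHomLift g (z.obj.hom ≫ F.map φ) :=
      IsHomLift.comp_lift_id_left' 𝒴.p (𝒳.p.obj z.obj.right) z.obj.hom g (F.map φ)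
    refine IsStronglyCartesian.ext 𝒴.p f (F.map m.hom.right) g ?_
    rw [Category.assoc, Category.assoc, ← F.toFunctor.map_comp, IsStronglyCartesian.fac,
      show s.obj.hom ≫ F.map m.hom.right = m.hom.left ≫ t.obj.hom from m.hom.w.symm,
      ← Category.assoc, ← hl]
    exact m'.hom.w
  refine ⟨ObjectProperty.homMk ⟨χ, φ, hw⟩, ⟨IsHomLift.map (facV F).toFunctor (ObjectProperty.homMk ⟨χ, φ, hw⟩), ?_⟩, ?_⟩
  · apply ObjectProperty.hom_ext
    ext
    · exact hl.symm
    · exact IsStronglyCartesian.fac 𝒳.p f m.hom.right (g := g) (f' := g ≫ f) rfl m'.hom.right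
  · rintro k ⟨hk, hk'⟩
    have hkl : k.hom.left = χ := by
      have := IsHomLift.fac' (facV F).toFunctor χ k
      simpa [facV] using this
    apply ObjectProperty.hom_ext
    ext
    · exact hkl
    · haveI : 𝒳.p.IsHomLift g k.hom.right := by
        have := fac_left_lift F k
        rw [hkl] at this
        have hs : 𝒴.p.obj s.obj.left = 𝒳.p.obj s.obj.right := fac_proj F s
        refine IsHomLift.of_fac' 𝒳.p _ _ rfl hs.symm ?_
        have := IsHomLift.fac' 𝒴.p (𝒳.p.map k.hom.right) χ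
        simp [g, this]
      exact IsStronglyCartesian.map_uniq 𝒳.p f m.hom.right rfl _ k.hom.right (congrArg (fun n => n.hom.right) hk')

end Groth.Agent.FibBase
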