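import Groth.Agent.FibBase.Fp

/-!
# The product of two categories over the base
-/

set_option backward.isDefEq.respectTransparency false
set_option backward.isDefEq.respectTransparency.types false

universe v₂ u₂ v u

open CategoryTheory CategoryTheory.Functor CategoryTheory.Limits

namespace Groth.Agent.FibBase

variable {C : Type u} [Category.{v} C] {𝒳 𝒴 : BasedCategory.{v₂, u₂} C}

local notation "P" => FibCat.fp (FibCat.toSelf 𝒳) (FibCat.toSelf 𝒴)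

lemma fpId_iso_hom (x : (P).obj) : x.obj.iso.hom = eqToHom (snd_proj x).symm := by
  have hx : (𝟭 C).IsHomLift (𝟙 (𝒳.p.obj x.obj.fst)) x.obj.iso.hom := x.property
  exact (map_eq_of_isHomLift_id hx)

lemma fpId_snd_cartesian_iff {x y : (P).obj} (φ : x ⟶ y) :
    𝒴.p.IsCartesian (𝒴.p.map φ.hom.snd) φ.hom.snd ↔ 𝒴.p.IsCartesian (𝒳.p.map φ.hom.fst) φ.hom.snd := by
  have := preservesHomLift_snd φ
  suffices ∀ {R S : C} (f : R ⟶ S) {a b : 𝒴.obj} (t : a ⟶ b), 𝒴.p.IsHomLift f t →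
      (𝒴.p.IsCartesian (𝒴.p.map t) t ↔ 𝒴.p.IsCartesian f t) from this _ _ (preservesHomLift_snd φ)
  intro R S f a b t ht
  subst_hom_lift 𝒴.p f t
  rfl

/-- A pair of morphisms over one base morphism. -/
def fpIdHom (x y : (P).obj) (a : x.obj.fst ⟶ y.obj.fst) (b : x.obj.snd ⟶ y.obj.snd)
    [𝒴.p.IsHomLift (𝒳.p.map a) b] : x ⟶ y :=
  ObjectProperty.homMk ⟨a, b, by
    rw [fpId_iso_hom, fpId_iso_hom]
    show 𝒳.p.map a ≫ _ = _ ≫ 𝒴.p.map b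
    rw [IsHomLift.fac' 𝒴.p (𝒳.p.map a) b]; simp⟩

/-- The object over a given object of the first factor. -/
def fpIdObj (a : 𝒳.obj) (b : 𝒴.obj) (h : 𝒴.p.obj b = 𝒳.p.obj a) : (P).obj :=
  ⟨⟨a, b, eqToIso h.symm⟩, isHomLift_id_of_map_eq (p := 𝟭 C) rfl h (by simp)⟩

lemma fpId_isCartesian {x y : (P).obj} (φ : x ⟶ y) {R S : C} (f : R ⟶ S) [(P).p.IsHomLift f φ]
    (h₁ : 𝒳.p.IsCartesian f φ.hom.fst) (h₂ : 𝒴.p.IsCartesian f φ.hom.snd) : (P).p.IsCartesian f φ := by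
  refine ⟨fun {z} ψ hψ => ?_⟩
  have := fp_isHomLift_fst f ψ
  have := fp_isHomLift_snd' f ψ
  obtain ⟨χ₁, ⟨ha, ha'⟩, hau⟩ := h₁.universal_property ψ.hom.fst
  obtain ⟨χ₂, ⟨hb, hb'⟩, hbu⟩ := h₂.universal_property ψ.hom.snd
  have hl : 𝒴.p.IsHomLift (𝒳.p.map χ₁) χ₂ := by
    rw [IsHomLift.fac' 𝒳.p (𝟙 R) χ₁]
    simp only [Category.id_comp]
    have e₁ : 𝒴.p.obj z.obj.snd = 𝒳.p.obj z.obj.fst := snd_proj z
    refine IsHomLift.of_fac' _ _ _ e₁ (snd_proj x) ?_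
    simp [IsHomLift.fac' 𝒴.p (𝟙 R) χ₂]
  refine ⟨fpIdHom z x χ₁ χ₂, ⟨fp_isHomLift (𝟙 R) _ (h := ha),
    ObjectProperty.hom_ext _ (CategoricalPullback.hom_ext ha' hb')⟩, ?_⟩
  rintro χ ⟨hχ, rfl⟩
  exact ObjectProperty.hom_ext _ (CategoricalPullback.hom_ext
    (hau χ.hom.fst ⟨fp_isHomLift_fst _ χ, rfl⟩) (hbu χ.hom.snd ⟨fp_isHomLift_snd' _ χ, rfl⟩))

theorem fpId_isPreFibered (h : 𝒳.p.IsPreFibered) (h' : 𝒴.p.IsPreFibered) : (P).p.IsPreFibered := by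
  refine ⟨fun {y V} f => ?_⟩
  change V ⟶ 𝒳.p.obj y.obj.fst at f
  obtain ⟨a, φ, hφ⟩ := IsPreFibered.exists_isCartesian 𝒳.p (a := y.obj.fst) rfl f
  obtain ⟨b, ψ, hψ⟩ := IsPreFibered.exists_isCartesian 𝒴.p (a := y.obj.snd) (snd_proj y) f
  obtain ⟨rfl, e₂⟩ := lift_to hφ.toIsHomLift
  simp only [eqToHom_refl, Category.id_comp] at e₂
  subst e₂
  have hψ' : 𝒴.p.IsHomLift (𝒳.p.map φ) ψ := hψ.toIsHomLift
  let χ := fpIdHom (fpIdObj a b (IsHomLift.domain_eq 𝒴.p (𝒳.p.map φ) ψ)) y φ ψ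
  have : (P).p.IsHomLift (𝒳.p.map φ) χ := fp_isHomLift _ χ (h := hφ.toIsHomLift)
  exact ⟨_, χ, fpId_isCartesian χ _ hφ hψ⟩

theorem fpId_isCartesian_iff {x y : (P).obj} (φ : x ⟶ y) :
    (P).p.IsCartesian ((P).p.map φ) φ ↔
      𝒳.p.IsCartesian (𝒳.p.map φ.hom.fst) φ.hom.fst ∧ 𝒴.p.IsCartesian (𝒴.p.map φ.hom.snd) φ.hom.snd := by
  rw [fpId_snd_cartesian_iff]
  have hs := preservesHomLift_snd φ
  constructor
  · intro h
    refine ⟨⟨fun {a'} θ hθ => ?_⟩, ⟨fun {b'} θ hθ => ?_⟩⟩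
    · have e : 𝒴.p.obj x.obj.snd = 𝒳.p.obj a' :=
        (snd_proj x).trans (IsHomLift.domain_eq 𝒳.p (𝒳.p.map φ.hom.fst) θ).symm
      let z := fpIdObj a' x.obj.snd e
      have : 𝒴.p.IsHomLift (𝒳.p.map θ) φ.hom.snd := by
        refine IsHomLift.of_fac' _ _ _ e (snd_proj y) ?_
        simp [IsHomLift.fac' 𝒳.p (𝒳.p.map φ.hom.fst) θ, IsHomLift.fac' 𝒴.p (𝒳.p.map φ.hom.fst) φ.hom.snd]
      let ψ : z ⟶ y := fpIdHom z y θ φ.hom.snd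
      have : (P).p.IsHomLift ((P).p.map φ) ψ := fp_isHomLift (𝒳.p.map φ.hom.fst) ψ (h := hθ)
      obtain ⟨χ, ⟨h₁, h₂⟩, h₃⟩ := h.universal_property ψ
      have : (P).p.IsHomLift (𝟙 (𝒳.p.obj x.obj.fst)) χ := h₁
      refine ⟨χ.hom.fst, ⟨fp_isHomLift_fst (𝟙 (𝒳.p.obj x.obj.fst)) χ, congrArg (fun t => t.hom.fst) h₂⟩, fun c ⟨hc, hc'⟩ => ?_⟩
      have : 𝒴.p.IsHomLift (𝒳.p.map c) (𝟙 x.obj.snd) := by
        refine IsHomLift.of_fac' _ _ _ e (snd_proj x) ?_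
        simp [IsHomLift.fac' 𝒳.p (𝟙 (𝒳.p.obj x.obj.fst)) c]
      have := h₃ (fpIdHom z x c (𝟙 x.obj.snd)) ⟨fp_isHomLift (𝟙 (𝒳.p.obj x.obj.fst)) _ (h := hc),
        ObjectProperty.hom_ext _ (CategoricalPullback.hom_ext hc' (Category.id_comp _))⟩
      exact congrArg (fun t => t.hom.fst) this
    · have e : 𝒴.p.obj b' = 𝒳.p.obj x.obj.fst := IsHomLift.domain_eq 𝒴.p (𝒳.p.map φ.hom.fst) θ
      let z := fpIdObj x.obj.fst b' e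
      let ψ : z ⟶ y := fpIdHom z y φ.hom.fst θ
      have : (P).p.IsHomLift ((P).p.map φ) ψ := fp_isHomLift (𝒳.p.map φ.hom.fst) ψ (h := IsHomLift.map _ _)
      obtain ⟨χ, ⟨h₁, h₂⟩, h₃⟩ := h.universal_property ψ
      have : (P).p.IsHomLift (𝟙 (𝒳.p.obj x.obj.fst)) χ := h₁
      refine ⟨χ.hom.snd, ⟨fp_isHomLift_snd' (𝟙 (𝒳.p.obj x.obj.fst)) χ, congrArg (fun t => t.hom.snd) h₂⟩, fun c ⟨hc, hc'⟩ => ?_⟩
      have : 𝒴.p.IsHomLift (𝒳.p.map (𝟙 x.obj.fst)) c := by rw [𝒳.p.map_id]; exact hc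
      have := h₃ (fpIdHom z x (𝟙 x.obj.fst) c) ⟨fp_isHomLift (𝟙 (𝒳.p.obj x.obj.fst)) _
          (h := inferInstanceAs (𝒳.p.IsHomLift (𝟙 (𝒳.p.obj x.obj.fst)) (𝟙 x.obj.fst))),
        ObjectProperty.hom_ext _ (CategoricalPullback.hom_ext (Category.id_comp _) hc')⟩
      exact congrArg (fun t => t.hom.snd) this
  · rintro ⟨h₁, h₂⟩
    exact fpId_isCartesian φ _ h₁ h₂

end Groth.Agent.FibBase
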