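import Groth.Agent.FibBase.Fp

/-!
# The inertia of a functor over the base is fibred
-/

set_option backward.isDefEq.respectTransparency false
set_option backward.isDefEq.respectTransparency.types false

universe v₃ u₃ v₂ u₂ v u

open CategoryTheory CategoryTheory.Functor

namespace Groth.Agent.FibBase

variable {C : Type u} [Category.{v} C] {𝒳 : BasedCategory.{v₂, u₂} C} {𝒴 : BasedCategory.{v₃, u₃} C}
  {F : 𝒳 ⥤ᵇ 𝒴}

lemma aut_isHomLift (x : FibCat.InertiaObj F) : 𝒳.p.IsHomLift (𝟙 (𝒳.p.obj x.pt)) x.aut.hom := by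
  rw [← F.isHomLift_iff, x.map_aut]
  exact IsHomLift.id (F.w_obj _)

lemma inertia_isHomLift_hom {R S : C} (f : R ⟶ S) {x y : FibCat.InertiaObj F} (φ : x ⟶ y)
    [h : (FibCat.inertia F).p.IsHomLift f φ] : 𝒳.p.IsHomLift f φ.hom :=
  IsHomLift.of_fac' _ f φ.hom (IsHomLift.domain_eq (FibCat.inertia F).p f φ)
    (IsHomLift.codomain_eq (FibCat.inertia F).p f φ) (IsHomLift.fac' (FibCat.inertia F).p f φ)

lemma inertia_isHomLift {R S : C} (f : R ⟶ S) {x y : FibCat.InertiaObj F} (φ : x ⟶ y)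
    [h : 𝒳.p.IsHomLift f φ.hom] : (FibCat.inertia F).p.IsHomLift f φ :=
  IsHomLift.of_fac' _ f φ (IsHomLift.domain_eq 𝒳.p f φ.hom) (IsHomLift.codomain_eq 𝒳.p f φ.hom)
    (IsHomLift.fac' 𝒳.p f φ.hom)

lemma inertia_isSC {R S : C} (f : R ⟶ S) {x y : FibCat.InertiaObj F} (φ : x ⟶ y)
    [h : 𝒳.p.IsStronglyCartesian f φ.hom] : (FibCat.inertia F).p.IsStronglyCartesian f φ := by
  have := inertia_isHomLift f φ
  refine ⟨fun {z} g ψ hψ => ?_⟩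
  have : 𝒳.p.IsHomLift (g ≫ f) ψ.hom := inertia_isHomLift_hom (g ≫ f) ψ
  obtain ⟨χ, ⟨h₁, h₂⟩, h₃⟩ := IsStronglyCartesian.universal_property 𝒳.p f φ.hom g _ rfl ψ.hom
  have := aut_isHomLift x
  have := aut_isHomLift z
  have hx : 𝒳.p.IsHomLift g (χ ≫ x.aut.hom) :=
    IsHomLift.comp_lift_id_right' 𝒳.p g χ (𝒳.p.obj x.pt) x.aut.hom
  have hz : 𝒳.p.IsHomLift g (z.aut.hom ≫ χ) :=
    IsHomLift.comp_lift_id_left' 𝒳.p (𝒳.p.obj z.pt) z.aut.hom g χ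
  have hcomm : z.aut.hom ≫ χ = χ ≫ x.aut.hom := IsStronglyCartesian.ext 𝒳.p f φ.hom g
    (by rw [Category.assoc, Category.assoc, φ.comm, h₂, reassoc_of% h₂, ψ.comm])
  refine ⟨⟨χ, hcomm⟩, ⟨inertia_isHomLift g _ (h := h₁), FibCat.InertiaObj.hom_ext h₂⟩, ?_⟩
  rintro χ' ⟨h₄, rfl⟩
  exact FibCat.InertiaObj.hom_ext (h₃ χ'.hom ⟨inertia_isHomLift_hom g χ', rfl⟩)

theorem inertia_isFibered [𝒳.p.IsFibered]
    (hF : ∀ {R S : C} (f : R ⟶ S) {a b : 𝒳.obj} (φ : a ⟶ b), 𝒳.p.IsStronglyCartesian f φ →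
      𝒴.p.IsStronglyCartesian f (F.map φ)) :
    (FibCat.inertia F).p.IsFibered := by
  refine IsFibered.of_exists_isStronglyCartesian fun x V f => ?_
  change V ⟶ 𝒳.p.obj x.pt at f
  obtain ⟨c, φ, hφ⟩ := IsPreFibered.exists_isCartesian 𝒳.p (a := x.pt) rfl f
  have hsc : 𝒳.p.IsStronglyCartesian f φ := inferInstance
  have := aut_isHomLift x
  let τ := IsCartesian.map 𝒳.p f φ (φ ≫ x.aut.hom)
  have hτ₀ : 𝒳.p.IsHomLift (𝟙 V) τ := inferInstance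
  have : IsIso τ := by
    have := IsHomLift.lift_id_inv 𝒳.p (𝒳.p.obj x.pt) x.aut
    have : 𝒳.p.IsHomLift (𝟙 V) (𝟙 c) := IsHomLift.id (IsHomLift.domain_eq 𝒳.p f φ)
    refine ⟨IsCartesian.map 𝒳.p f φ (φ ≫ x.aut.inv), ?_, ?_⟩
    · exact IsCartesian.ext 𝒳.p f φ _ _ (by simp [τ])
    · exact IsCartesian.ext 𝒳.p f φ _ _ (by simp [τ])
  have hFτ : F.map τ = 𝟙 _ := by
    have hF' := hF f φ hsc
    have : 𝒴.p.IsHomLift (𝟙 V) (𝟙 (F.obj c)) :=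
      IsHomLift.id ((F.w_obj c).trans (IsHomLift.domain_eq 𝒳.p f φ))
    exact IsCartesian.ext 𝒴.p f (F.map φ) _ _ (by
      rw [← F.toFunctor.map_comp, IsCartesian.fac, F.toFunctor.map_comp, x.map_aut]; simp)
  let z : FibCat.InertiaObj F := ⟨c, asIso τ, hFτ⟩
  let χ : z ⟶ x := ⟨φ, IsCartesian.fac 𝒳.p f φ (φ ≫ x.aut.hom)⟩
  exact ⟨z, χ, inertia_isSC f χ (h := hsc)⟩

theorem inertia_isFibGrpd (h𝒳 : FibCat.IsFibGrpd 𝒳.p) (h𝒴 : FibCat.IsFibGrpd 𝒴.p) :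
    FibCat.IsFibGrpd (FibCat.inertia F).p := by
  have := isFibered_of_isFibGrpd h𝒳
  refine ⟨fun {x V} f => ?_, fun {y x} φ => inertia_isSC _ φ (h := h𝒳.isStronglyCartesian _)⟩
  have := inertia_isFibered (F := F) (fun f a b φ h => isSC (hp := h𝒴) f (F.map φ))
  obtain ⟨z, χ, hχ⟩ := IsPreFibered.exists_isCartesian (FibCat.inertia F).p (a := x) rfl f
  exact ⟨z, χ, hχ.toIsHomLift⟩

end Groth.Agent.FibBase
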