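import Groth.Prelude.Def_W4stkcategoriessitesFib

/-!
# The map of categorical pullbacks induced on self fibre products
-/

open CategoryTheory CategoryTheory.Limits

universe u v

set_option backward.isDefEq.respectTransparency false
set_option backward.isDefEq.respectTransparency.types false

namespace Groth.Agent.FibBase

variable {X Y V : Type u} [Category.{v} X] [Category.{v} Y] [Category.{v} V] (p : X ⥤ Y) (q : V ⥤ Y)

/-- The cospan transformation from the second projection to `p`. -/
noncomputable abbrev projTransform : CatCospanTransform (CategoricalPullback.π₂ p q) (CategoricalPullback.π₂ p q) p p :=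
  ⟨CategoricalPullback.π₁ p q, q, CategoricalPullback.π₁ p q, ⟨(CatCommSq.iso (CategoricalPullback.π₁ p q) (CategoricalPullback.π₂ p q) p q).symm⟩, ⟨(CatCommSq.iso (CategoricalPullback.π₁ p q) (CategoricalPullback.π₂ p q) p q).symm⟩⟩

lemma mapPb_iso (z : CategoricalPullback (CategoricalPullback.π₂ p q) (CategoricalPullback.π₂ p q)) :
    ((FibCat.categoricalPullbackMap (projTransform p q)).obj z).iso.hom =
      z.fst.iso.hom ≫ q.map z.iso.hom ≫ z.snd.iso.inv := by
  simp [projTransform, FibCat.categoricalPullbackMap, CatCommSq.iso]
  rfl

lemma mapPb_fst {z z' : CategoricalPullback (CategoricalPullback.π₂ p q) (CategoricalPullback.π₂ p q)} (t : z ⟶ z') :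
    ((FibCat.categoricalPullbackMap (projTransform p q)).map t).fst = t.fst.fst := by
  simp [projTransform, FibCat.categoricalPullbackMap]

lemma mapPb_snd {z z' : CategoricalPullback (CategoricalPullback.π₂ p q) (CategoricalPullback.π₂ p q)} (t : z ⟶ z') :
    ((FibCat.categoricalPullbackMap (projTransform p q)).map t).snd = t.snd.fst := by
  simp [projTransform, FibCat.categoricalPullbackMap]

example (z : CategoricalPullback (CategoricalPullback.π₂ p q) (CategoricalPullback.π₂ p q)) :
    ((FibCat.categoricalPullbackMap (projTransform p q)).obj z).fst = z.fst.fst := rfl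

end Groth.Agent.FibBase
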