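import Groth.Agent.FibBase.Basic
import Mathlib.CategoryTheory.Opposites

/-!
# Bifibred functors: the opposite of a fibred functor
-/

set_option backward.isDefEq.respectTransparency false
set_option backward.isDefEq.respectTransparency.types false

universe v₂ u₂ v u

open CategoryTheory CategoryTheory.Functor Opposite

namespace Groth.Agent.FibBase

variable {C : Type u} [Category.{v} C] {X : Type u₂} [Category.{v₂} X] {p : X ⥤ C}

lemma op_isHomLift_iff {R S : Cᵒᵖ} (f : R ⟶ S) {a b : Xᵒᵖ} (φ : a ⟶ b) :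
    p.op.IsHomLift f φ ↔ p.IsHomLift f.unop φ.unop := by
  constructor
  · intro h
    subst_hom_lift p.op f φ
    exact IsHomLift.map p φ.unop
  · intro h
    obtain ⟨R⟩ := R; obtain ⟨S⟩ := S
    obtain ⟨f, rfl⟩ : ∃ g : S ⟶ R, f = g.op := ⟨f.unop, rfl⟩
    change p.IsHomLift f φ.unop at h
    subst_hom_lift p f φ.unop
    exact IsHomLift.map p.op φ

/-- The universal property of a morphism that is cartesian for `p.op`, read in `X`. -/
lemma cocart_univ {R S : Cᵒᵖ} (f : R ⟶ S) {a b : Xᵒᵖ} (φ : a ⟶ b) [p.op.IsCartesian f φ] {d : X}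
    (θ : b.unop ⟶ d) [p.IsHomLift f.unop θ] :
    ∃! v : a.unop ⟶ d, p.IsHomLift (𝟙 R.unop) v ∧ φ.unop ≫ v = θ := by
  have : p.op.IsHomLift f θ.op := (op_isHomLift_iff f θ.op).2 ‹_›
  obtain ⟨χ, ⟨h₁, h₂⟩, h₃⟩ := IsCartesian.universal_property (p := p.op) (f := f) (φ := φ) θ.op
  refine ⟨χ.unop, ⟨(op_isHomLift_iff (𝟙 R) χ).1 h₁, Quiver.Hom.op_inj ?_⟩, fun v ⟨h₄, h₅⟩ => ?_⟩
  · simpa using h₂
  · exact Quiver.Hom.op_inj (by simpa using h₃ v.op ⟨(op_isHomLift_iff (𝟙 R) v.op).2 h₄, by rw [← h₅]; rfl⟩)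

/-- If `p` is fibred and has cocartesian lifts then composites of cocartesian morphisms are cocartesian. -/
theorem op_isFibered [p.IsFibered] (h : p.op.IsPreFibered) : p.op.IsFibered := by
  refine { toIsPreFibered := h, comp := fun {R S T} f g {a b c} φ ψ _ _ => ?_ }
  refine { toIsHomLift := inferInstance, universal_property := fun {a'} τ hτ => ?_ }
  have hφ : p.IsHomLift f.unop φ.unop := (op_isHomLift_iff f φ).1 inferInstance
  have hψ : p.IsHomLift g.unop ψ.unop := (op_isHomLift_iff g ψ).1 inferInstance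
  have hτ' : p.IsHomLift (g.unop ≫ f.unop) τ.unop := (op_isHomLift_iff (f ≫ g) τ).1 hτ
  obtain ⟨e, κ, hκ⟩ := IsPreFibered.exists_isCartesian p
    (IsHomLift.codomain_eq p (g.unop ≫ f.unop) τ.unop) f.unop
  have hκ' : p.IsStronglyCartesian f.unop κ := inferInstance
  obtain ⟨t, ⟨ht, htκ⟩, htu⟩ :=
    IsStronglyCartesian.universal_property p f.unop κ g.unop (g.unop ≫ f.unop) rfl τ.unop
  obtain ⟨u, ⟨hu, hu'⟩, huu⟩ := cocart_univ (p := p) g ψ t
  obtain ⟨v, ⟨hv, hv'⟩, hvu⟩ := cocart_univ (p := p) f φ (u ≫ κ)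
  refine ⟨v.op, ⟨(op_isHomLift_iff (𝟙 R) v.op).2 hv, Quiver.Hom.unop_inj ?_⟩, ?_⟩
  · show (ψ.unop ≫ φ.unop) ≫ v = τ.unop
    rw [Category.assoc, hv', reassoc_of% hu', htκ]
  · rintro χ ⟨hχ₁, hχ₂⟩
    refine Quiver.Hom.unop_inj (hvu χ.unop ⟨(op_isHomLift_iff (𝟙 R) χ).1 hχ₁, ?_⟩)
    have := (op_isHomLift_iff (𝟙 R) χ).1 hχ₁
    have : p.IsHomLift (𝟙 R.unop) χ.unop := this
    let u' := IsCartesian.map p f.unop κ (φ.unop ≫ χ.unop)
    have hu'' : p.IsHomLift (𝟙 S.unop) u' := inferInstance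
    have h₆ : ψ.unop ≫ u' = t := htu _ ⟨inferInstance, by
      simpa [u'] using congrArg Quiver.Hom.unop hχ₂⟩
    rw [← huu u' ⟨hu'', h₆⟩]
    exact (IsCartesian.fac p f.unop κ _).symm

lemma opop_isHomLift_iff {R S : C} (f : R ⟶ S) {a b : X} (φ : a ⟶ b) :
    p.op.op.IsHomLift f.op.op φ.op.op ↔ p.IsHomLift f φ :=
  (op_isHomLift_iff f.op.op φ.op.op).trans (op_isHomLift_iff f.op φ.op)

lemma opop_isCartesian_iff {R S : C} (f : R ⟶ S) {a b : X} (φ : a ⟶ b) :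
    p.op.op.IsCartesian f.op.op φ.op.op ↔ p.IsCartesian f φ := by
  constructor <;> intro h
  · have h₀ : p.IsHomLift f φ := (opop_isHomLift_iff f φ).1 h.toIsHomLift
    refine { universal_property := fun {a'} θ hθ => ?_ }
    have := (opop_isHomLift_iff f θ).2 hθ
    obtain ⟨χ, ⟨h₁, h₂⟩, h₃⟩ := h.universal_property θ.op.op
    refine ⟨χ.unop.unop, ⟨(opop_isHomLift_iff (𝟙 R) χ.unop.unop).1 h₁, congrArg (fun t => t.unop.unop) h₂⟩,
      fun v ⟨h₄, h₅⟩ => congrArg (fun t => t.unop.unop)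
        (h₃ v.op.op ⟨(opop_isHomLift_iff (𝟙 R) v).2 h₄, congrArg (fun t => t.op.op) h₅⟩)⟩
  · have h₀ : p.op.op.IsHomLift f.op.op φ.op.op := (opop_isHomLift_iff f φ).2 h.toIsHomLift
    refine { universal_property := fun {a'} θ hθ => ?_ }
    obtain ⟨⟨a'⟩⟩ := a'
    obtain ⟨θ, rfl⟩ : ∃ t : a' ⟶ b, θ = t.op.op := ⟨θ.unop.unop, rfl⟩
    have := (opop_isHomLift_iff f θ).1 hθ
    obtain ⟨χ, ⟨h₁, h₂⟩, h₃⟩ := h.universal_property θ
    refine ⟨χ.op.op, ⟨(opop_isHomLift_iff (𝟙 R) χ).2 h₁, congrArg (fun t => t.op.op) h₂⟩,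
      fun v ⟨h₄, h₅⟩ => congrArg (fun t => t.op.op)
        (h₃ v.unop.unop ⟨(opop_isHomLift_iff (𝟙 R) v.unop.unop).1 h₄, congrArg (fun t => t.unop.unop) h₅⟩)⟩

lemma opop_isPreFibered [p.IsPreFibered] : p.op.op.IsPreFibered := by
  refine ⟨fun {a R} f => ?_⟩
  obtain ⟨⟨a⟩⟩ := a
  obtain ⟨⟨R⟩⟩ := R
  obtain ⟨f, rfl⟩ : ∃ t : R ⟶ p.obj a, f = t.op.op := ⟨f.unop.unop, rfl⟩
  obtain ⟨b, φ, hφ⟩ := IsPreFibered.exists_isCartesian p (a := a) rfl f
  exact ⟨_, φ.op.op, (opop_isCartesian_iff f φ).2 hφ⟩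

theorem isFibered_of_op [p.IsPreFibered] (h : p.op.IsFibered) : p.IsFibered := by
  have := op_isFibered (p := p.op) opop_isPreFibered
  refine { comp := fun {R S T} f g {a b c} φ ψ hφ hψ => ?_ }
  have := (opop_isCartesian_iff f φ).2 hφ
  have := (opop_isCartesian_iff g ψ).2 hψ
  exact (opop_isCartesian_iff (f ≫ g) (φ ≫ ψ)).1
    (inferInstanceAs (p.op.op.IsCartesian (f.op.op ≫ g.op.op) (φ.op.op ≫ ψ.op.op)))

end Groth.Agent.FibBase
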