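import Groth.Agent.FibBase.Slices

/-!
# Products over the base of representable 1-morphisms
-/

set_option backward.isDefEq.respectTransparency false
set_option backward.isDefEq.respectTransparency.types false

universe v₂ u₂ v u

open CategoryTheory CategoryTheory.Functor CategoryTheory.Limits

namespace Groth.Agent.FibBase

variable {C : Type u} [Category.{v} C]

/-- In a product over the base, componentwise lifts of identities commute with the comparison maps. -/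
lemma self_w {𝒳 𝒴 : BasedCategory.{v₂, u₂} C}
    {x y : (FibCat.fp (FibCat.toSelf 𝒳) (FibCat.toSelf 𝒴)).obj}
    (a : x.obj.fst ⟶ y.obj.fst) (b : x.obj.snd ⟶ y.obj.snd) (S : C)
    (ha : 𝒳.p.IsHomLift (𝟙 S) a) (hb : 𝒴.p.IsHomLift (𝟙 S) b) :
    (FibCat.toSelf 𝒳).map a ≫ y.obj.iso.hom = x.obj.iso.hom ≫ (FibCat.toSelf 𝒴).map b := by
  show 𝒳.p.map a ≫ y.obj.iso.hom = x.obj.iso.hom ≫ 𝒴.p.map b
  rw [self_hom_eq x.property, self_hom_eq y.property, map_eq_of_isHomLift_id ha, map_eq_of_isHomLift_id hb]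
  simp

section

variable {𝒳₁ 𝒳₂ 𝒴₁ 𝒴₂ : BasedCategory.{v, max u v} C} {f₁ : 𝒳₁ ⥤ᵇ 𝒴₁} {f₂ : 𝒳₂ ⥤ᵇ 𝒴₂}
  (e : BasedFunctor.comp (BasedFunctor.comp (FibCat.fpFst (FibCat.toSelf 𝒳₁) (FibCat.toSelf 𝒳₂)) f₁)
      (FibCat.toSelf 𝒴₁) ≅
    BasedFunctor.comp (BasedFunctor.comp (FibCat.fpSnd (FibCat.toSelf 𝒳₁) (FibCat.toSelf 𝒳₂)) f₂)
      (FibCat.toSelf 𝒴₂))

local notation "prodMap" => FibCat.fpLift
  (BasedFunctor.comp (FibCat.fpFst (FibCat.toSelf 𝒳₁) (FibCat.toSelf 𝒳₂)) f₁)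
  (BasedFunctor.comp (FibCat.fpSnd (FibCat.toSelf 𝒳₁) (FibCat.toSelf 𝒳₂)) f₂) e

theorem rep1_prod (hf₁ : FibCat.IsRepresentable1 f₁) (hf₂ : FibCat.IsRepresentable1 f₂) :
    FibCat.IsRepresentable1 prodMap := by
  intro U G
  let G₁ := BasedFunctor.comp G (FibCat.fpFst (FibCat.toSelf 𝒴₁) (FibCat.toSelf 𝒴₂))
  let G₂ := BasedFunctor.comp G (FibCat.fpSnd (FibCat.toSelf 𝒴₁) (FibCat.toSelf 𝒴₂))
  let K := BasedFunctor.comp (FibCat.fpFst G₁ f₁) G₂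
  have hW : FibCat.IsRepresentable (FibCat.fp K f₂) := rep_fp (hf₁ U G₁) K f₂ hf₂
  let a := BasedFunctor.comp (FibCat.fpFst K f₂) (FibCat.fpFst G₁ f₁)
  let b : FibCat.fp K f₂ ⥤ᵇ FibCat.fp (FibCat.toSelf 𝒳₁) (FibCat.toSelf 𝒳₂) :=
    FibCat.fpLift (BasedFunctor.comp (FibCat.fpFst K f₂) (FibCat.fpSnd G₁ f₁)) (FibCat.fpSnd K f₂)
      (selfIso _ _)
  let cmp : ∀ w, (BasedFunctor.comp a G).obj w ≅ (BasedFunctor.comp b prodMap).obj w := fun w =>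
    (FibCat.fpProp _ _).isoMk (CategoricalPullback.mkIso w.obj.fst.obj.iso w.obj.iso
      (self_w (x := (BasedFunctor.comp a G).obj w) (y := (BasedFunctor.comp b prodMap).obj w)
        w.obj.fst.obj.iso.hom w.obj.iso.hom ((Over.forget U).obj w.obj.fst.obj.fst)
        w.obj.fst.property w.property))
  let e' : BasedFunctor.comp a G ≅ BasedFunctor.comp b prodMap := BasedNatIso.mkNatIso
    (NatIso.ofComponents cmp
      (fun {w w'} φ => ObjectProperty.hom_ext _ (CategoricalPullback.hom_ext φ.hom.fst.hom.w φ.hom.w)))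
    (fun w => fp_isHomLift (F := FibCat.toSelf 𝒴₁) (G := FibCat.toSelf 𝒴₂)
      (𝟙 ((Over.forget U).obj w.obj.fst.obj.fst)) _ (h := w.obj.fst.property))
  refine rep_of_equiv' (FibCat.fpLift a b e')
    (isEquivOver_of_exists_iso _ ⟨fun {x y} t => ?_⟩ ⟨fun {x y} t t' h => ?_⟩ fun η => ?_) hW
  · have w₁ : G₁.map t.hom.fst ≫ y.obj.fst.obj.iso.hom = x.obj.fst.obj.iso.hom ≫ f₁.map t.hom.snd.hom.fst :=
      congrArg (fun s => s.hom.fst) t.hom.w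
    have w₂ : G₂.map t.hom.fst ≫ y.obj.iso.hom = x.obj.iso.hom ≫ f₂.map t.hom.snd.hom.snd :=
      congrArg (fun s => s.hom.snd) t.hom.w
    exact ⟨ObjectProperty.homMk ⟨ObjectProperty.homMk ⟨t.hom.fst, t.hom.snd.hom.fst, w₁⟩, t.hom.snd.hom.snd, w₂⟩,
      ObjectProperty.hom_ext _ (CategoricalPullback.hom_ext rfl
        (ObjectProperty.hom_ext _ (CategoricalPullback.hom_ext rfl rfl)))⟩
  · exact ObjectProperty.hom_ext _ (CategoricalPullback.hom_ext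
      (ObjectProperty.hom_ext _ (CategoricalPullback.hom_ext
        (congrArg (fun s => s.hom.fst) h) (congrArg (fun s => s.hom.snd.hom.fst) h)))
      (congrArg (fun s => s.hom.snd.hom.snd) h))
  · obtain ⟨⟨u, xx, i⟩, hη⟩ := η
    let S := (Over.forget U).obj u
    haveI : (FibCat.fp (FibCat.toSelf 𝒴₁) (FibCat.toSelf 𝒴₂)).p.IsHomLift (𝟙 S) i.hom := hη
    let i₁ : G₁.obj u ≅ f₁.obj xx.obj.fst :=
      (FibCat.fpFst (FibCat.toSelf 𝒴₁) (FibCat.toSelf 𝒴₂)).toFunctor.mapIso i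
    let i₂ : G₂.obj u ≅ f₂.obj xx.obj.snd :=
      (FibCat.fpSnd (FibCat.toSelf 𝒴₁) (FibCat.toSelf 𝒴₂)).toFunctor.mapIso i
    have l₁ : 𝒴₁.p.IsHomLift (𝟙 S) i₁.hom :=
      (FibCat.fpFst (FibCat.toSelf 𝒴₁) (FibCat.toSelf 𝒴₂)).preserves_isHomLift (𝟙 S) i.hom
    have l₂ : 𝒴₂.p.IsHomLift (𝟙 S) i₂.hom :=
      (FibCat.fpSnd (FibCat.toSelf 𝒴₁) (FibCat.toSelf 𝒴₂)).preserves_isHomLift (𝟙 S) i.hom
    let w₁ : (FibCat.fp G₁ f₁).obj := ⟨⟨u, xx.obj.fst, i₁⟩, l₁⟩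
    let w : (FibCat.fp K f₂).obj := ⟨⟨w₁, xx.obj.snd, i₂⟩, l₂⟩
    have p₁ : 𝒳₁.p.obj xx.obj.fst = S :=
      (f₁.w_obj _).symm.trans (IsHomLift.codomain_eq 𝒴₁.p (𝟙 S) i₁.hom)
    have p₂ : 𝒳₂.p.obj xx.obj.snd = S :=
      (f₂.w_obj _).symm.trans (IsHomLift.codomain_eq 𝒴₂.p (𝟙 S) i₂.hom)
    let exx : b.obj w ≅ xx := (FibCat.fpProp _ _).isoMk (CategoricalPullback.mkIso (Iso.refl _) (Iso.refl _)
      (self_w (x := b.obj w) (y := xx) (𝟙 _) (𝟙 _) S (IsHomLift.id p₁) (IsHomLift.id p₂)))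
    let ee : (FibCat.fpLift a b e').obj w ≅ (⟨⟨u, xx, i⟩, hη⟩ : (FibCat.fp G prodMap).obj) :=
      (FibCat.fpProp _ _).isoMk (CategoricalPullback.mkIso (Iso.refl _) exx ?_)
    refine ⟨w, ee, ?_⟩
    rotate_left
    · refine ObjectProperty.hom_ext _ (CategoricalPullback.hom_ext ?_ ?_)
      · show G₁.map (𝟙 u) ≫ i₁.hom = i₁.hom ≫ f₁.map (𝟙 xx.obj.fst)
        simp
      · show G₂.map (𝟙 u) ≫ i₂.hom = i₂.hom ≫ f₂.map (𝟙 xx.obj.snd)
        simp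
    · exact fp_isHomLift (F := G) (G := prodMap) (𝟙 S) _
        (h := IsHomLift.id (p := Over.forget U) (a := u) rfl)

end

end Groth.Agent.FibBase
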